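import Cfsg.Agent.RC.A.Amb
import Cfsg.Agent.H614.GU.Fld
import Cfsg.Agent.H623.GU.Red
import Cfsg.Agent.H76.GLB.Lower
import Cfsg.Agent.H157.GLB.DG
import Cfsg.Agent.H421.HT.Num
import Cfsg.Agent.H901.Sl.JJ

/-!
# RC, type A: the cells (helper74)

* `Cel.dfc` : the defect of the characters in the block of the cuspidal character;
* `Cel.cell_of` : the cell from a tower over the extension field; `boxC`.
-/

set_option autoImplicit false

namespace Cfsg.Agent.RC.A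

open Cfsg Module
open Cfsg.Agent.H577.GLB.Std Cfsg.Agent.H614.GLn.RSt Cfsg.Agent.H615.GU Cfsg.Agent.H623.GU Cfsg.Agent.H112.GLB
open Cfsg.Agent.H794.EM (vz PH tyOne vz_mul vz_natCast)
open Cfsg.Agent.H624.Sl (scl jj nrm jj_mulVec)
open Cfsg.Agent.H166.GUC Cfsg.Agent.H901.Sl Cfsg.Agent.H614.GU
open scoped MatrixGroups

namespace Cel

theorem exists_lift {X G H : Type} [Group X] [Group G] [Group H] {ρ : G →* H} (hρ : Function.Injective ρ) (J : X →* H)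
    (h : ∀ x, J x ∈ ρ.range) : ∃ j : X →* G, ∀ x, ρ (j x) = J x :=
  ⟨(MonoidHom.ofInjective hρ).symm.toMonoidHom.comp (J.codRestrict _ h), fun _ => MonoidHom.apply_ofInjective_symm hρ _⟩

section arith

variable {p : ℕ} {Q : ℤ}

theorem cast_one (h1 : (p : ℤ) ∣ Q - 1) : (Q : ZMod p) = 1 := by
  have h := (ZMod.intCast_zmod_eq_zero_iff_dvd (Q - 1) p).2 h1
  rwa [Int.cast_sub, Int.cast_one, sub_eq_zero] at h

theorem dvd_pow (h1 : (p : ℤ) ∣ Q - 1) (k : ℕ) : (p : ℤ) ∣ Q ^ k - 1 :=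
  h1.trans (by simpa using pow_sub_one_dvd Q (one_dvd k))

theorem two_pow (hQ : 2 ≤ |Q|) {k : ℕ} (hk : 0 < k) : 2 ≤ |Q ^ k| := by
  rw [abs_pow]
  exact hQ.trans (le_self_pow₀ (by linarith) hk.ne')

theorem vz_pow (hp : p.Prime) (h2 : p ≠ 2) (hQ : 2 ≤ |Q|) (h1 : (p : ℤ) ∣ Q - 1) {k : ℕ} (hk : 0 < k) :
    vz p (Q ^ k - 1) = vz p (Q - 1) + k.factorization p := by
  have h := H421.HT.fac_factor hp (hp.odd_of_ne_two h2) hQ hk
  rwa [cast_one h1, orderOf_one, if_pos (one_dvd k), pow_one, Nat.div_one] at h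

theorem fac_sum (hp : p.Prime) (h2 : p ≠ 2) {c : ℕ} (hc : 2 ≤ |(c : ℤ)|) (h1 : (p : ℤ) ∣ c - 1) {f : ℕ} (hf : 0 < f) :
    ∑ i ∈ Finset.range f, c ^ i ≠ 0 ∧ (∑ i ∈ Finset.range f, c ^ i).factorization p = f.factorization p := by
  have h3 : ((∑ i ∈ Finset.range f, c ^ i : ℕ) : ℤ) * (c - 1) = (c : ℤ) ^ f - 1 := by
    rw [← geom_sum_mul]
    push_cast
    rfl
  have h4 := pow_sub_one_ne_zero hc hf
  rw [← h3] at h4
  have h5 := vz_pow hp h2 hc h1 hf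
  rw [← h3, vz_mul (left_ne_zero_of_mul h4) (right_ne_zero_of_mul h4), vz_natCast] at h5
  exact ⟨Nat.cast_ne_zero.1 (left_ne_zero_of_mul h4), by omega⟩

theorem p_ne (E : Type) [Field E] [Fintype E] (h : (p : ℤ) ∣ (Fintype.card E : ℤ) - 1) : (p : E) ≠ 0 := fun h0 => by
  obtain ⟨c, hc⟩ := h
  have h1 := congrArg (Int.cast : ℤ → E) hc
  rw [Int.cast_sub, Int.cast_mul, Int.cast_natCast, Int.cast_natCast, h0, zero_mul, FiniteField.cast_card_eq_zero,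
    Int.cast_one, zero_sub, neg_eq_zero] at h1
  exact one_ne_zero h1

end arith

variable {F K : Type} [Field F] [Field K] [Algebra F K] {θ : K →*₀ ℂ} {Q : ℤ} {M : ℕ} [NeZero M] {N p : ℕ}
  {G : ℕ → Type} [∀ n, Group (G n)] [∀ n, Finite (G n)] {𝔐 : Ideal AlgInt} {δ : ZMod M}

theorem lab_same {m n : ℕ} (t : LabZ Q M m n) {c c' : ZMod M} (h : SameZ Q M c c') : t.t c' = t.t c := by
  obtain ⟨j, rfl⟩ := h
  induction j with
  | zero => rw [pow_zero, one_mul]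
  | succ j ih => rw [pow_succ', mul_assoc, t.orb, ih]

/-- the defect of the characters in the block of the cuspidal character -/
theorem dfc (hD : BoxD) (hL : BoxL) (A : Amb F K θ Q M N p G) (h𝔐 : IsPModular p 𝔐) (h2 : p ≠ 2)
    (h1 : (p : ℤ) ∣ Q - 1) (hδ : PReg M p δ) {k : ℕ} (hk : k ≤ N) (hper : perZ Q M δ = k) {θ₀ : IrrCharacter (G k)}
    (h0 : ∃ s' : ℤˣ, (A.t.R k hk).om (rv Q M k δ) = ((s' : ℤ) : ℂ) • (θ₀ : G k → ℂ)) :
    ∀ θ' ∈ blockOf 𝔐 (θ₀ : G k → ℂ),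
      (Nat.card (G k)).factorization p ≤ (charDegree (θ' : G k → ℂ)).factorization p + bb Q M p δ := by
  intro θ' hθ
  subst hper
  have hu := A.ctx.unit
  have := h𝔐.2.1.isPrime
  obtain ⟨t, ht, ho, hb⟩ := H76.GLB.exists_cuspLab hu (perZ_pos hu δ) δ
  have hbij := A.t.bij _ _ hk le_rfl
  obtain ⟨T, hT, -⟩ := hbij.1 θ'
  have hs := (A.t.R _ hk).sameFam_of_mem h𝔐 le_rfl hbij ⟨θ₀, rfl⟩ hθ
    (Blocks.Basic.mem_blockOf_self θ₀) hT (t' := t) (by rwa [Rz.IsLb, ht])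
  have h3 := (hD K θ Q M N p G h𝔐.1 h2 h1 A.ctx A.t _ hk (A.one _ hk) _ θ' T hT).2
  have h4 := (hL Q M p _ _ h𝔐.1 h2 h1 A.ctx.two hu t T
    (fun c hc => by_contra fun h => hc (H76.GLB.pReg_of_same (ho c (Nat.pos_of_ne_zero h)) hδ)) hs Unit
    (fun _ => canon Q M δ) (fun _ => canon_mem_repsZ hu δ) (fun c hc => by
      by_cases h : canon Q M δ = c
      · rw [← h, lab_same t (sameZ_canon δ), hb]
        exact Nat.card_eq_one_iff_unique.2 ⟨inferInstance, ⟨⟨(), rfl⟩⟩⟩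
      · have : IsEmpty {_i : Unit // canon Q M δ = c} := ⟨fun i => h i.2⟩
        rw [Nat.card_of_isEmpty]
        exact by_contra fun h5 => h ((canon_eq_of_same hu (ho c (Nat.pos_of_ne_zero (Ne.symm h5)))).trans
          (mem_repsZ.1 hc))) ⊤ fun σ => ⟨fun _ _ => rfl, fun _ => trivial⟩).1
  rw [Fintype.sum_unique, Nat.card_unique, Nat.factorization_one, bb, ← perZ_of_same hu (sameZ_canon δ)] at h4
  rw [A.card, bb]
  exact h3.trans (Nat.add_le_add_left h4 _)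

/-- the cell from a tower over the extension field -/
theorem cell_of (hD : BoxD) (hL : BoxL) (A : Amb F K θ Q M N p G) (h𝔐 : IsPModular p 𝔐) (h2 : p ≠ 2)
    (h1 : (p : ℤ) ∣ Q - 1) (hδ : PReg M p δ) {s k f r : ℕ} (hf : f = orderOf (Q : ZMod p) * p ^ s) (hk : ¬ p ∣ k)
    (hper : perZ Q M δ = f * k) (hper' : perZ (Q ^ f) M δ = k) (hN : f * k ≤ N) (hr : (Nat.card F : ℤ) = Q ^ r)
    (hrf : f.Coprime r) (hr0 : 0 < r) (E : IntermediateField F K) (hE : finrank F E = f) {G₁ : ℕ → Type}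
    [∀ n, Group (G₁ n)] [∀ n, Finite (G₁ n)] (A₁ : Amb E K θ (Q ^ f) M k p G₁)
    (hsc : ∀ y : Eˣ, y ^ (Q ^ f - 1) = 1 → scl k y ∈ (A₁.ρ k).range)
    (horb : ∀ (u : G₁ k) (x : Kˣ) (i : ℕ), ∑ j ∈ Finset.range f, mcol (A₁.ρ k u).1 ((x : K) ^ Nat.card F ^ j) i =
      ∑ j ∈ Finset.range f, mcol (A₁.ρ k u).1 ((x ^ Q ^ j : Kˣ) : K) i)
    (he : ∀ l n, l + f * k = n → ∃ ε : ((Fin k → E) × (Fin l → F)) ≃ₗ[F] (Fin n → F),
      (∀ x y, A.bf n (ε x) (ε y) = Algebra.trace F E (A₁.bf k x.1 y.1) + A.bf l x.2 y.2) ∧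
      ∀ X Y, jj ε (X, Y) ∈ (A.ρ n).range ↔ X ∈ (A₁.ρ k).range ∧ Y ∈ (A.ρ l).range) : Nonempty (Cell A 𝔐 δ) := by
  have hp := h𝔐.1
  have := A.cF.finF
  have := A.cF.finK
  have := A₁.cF.finF
  have hQ := A.ctx.two
  have hk0 : 0 < k := Nat.pos_of_ne_zero fun h => hk (h ▸ dvd_zero p)
  have hf0 : 0 < f := hE ▸ finrank_pos
  have hb : bb Q M p δ = vz p (Q ^ f - 1) := by
    rw [bb, hper, pow_mul, vz_pow hp h2 (two_pow hQ hf0) (dvd_pow h1 f) hk0,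
      Nat.factorization_eq_zero_of_not_dvd hk, add_zero]
  let ι : Eˣ →* Kˣ := Units.map (algebraMap E K).toMonoidHom
  have hι : Function.Injective ι := Units.map_injective (algebraMap E K).injective
  have hmu : ∀ y : mu Kˣ (p ^ bb Q M p δ), y.1 ^ (Q ^ f - 1) = 1 := fun y => by
    obtain ⟨c, hc⟩ : ((p ^ bb Q M p δ : ℕ) : ℤ) ∣ Q ^ f - 1 := Int.natCast_dvd.2 (hb ▸ Nat.ordProj_dvd _ _)
    rw [hc, zpow_mul, zpow_natCast, mem_mu.1 y.2, one_zpow]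
  obtain ⟨c, hc⟩ := exists_lift hι (mu Kˣ (p ^ bb Q M p δ)).subtype fun y =>
    (A₁.dsur k hk0 y.1 (hmu y)).elim fun g hg => ⟨_, hg⟩
  obtain ⟨σ, hσ⟩ := exists_lift (A₁.inj k) ((Units.map (Matrix.scalar (Fin k)).toMonoidHom).comp c) fun y =>
    hsc (c y) (hι (by rw [map_zpow, hc, map_one]; exact hmu y))
  replace hσ : ∀ y, A₁.ρ k (σ y) = scl k (c y) := hσ
  obtain ⟨θ₀, h0⟩ := exists_cusp hk0 (A₁.t.R k le_rfl) (A₁.t.bij k k le_rfl le_rfl) hper'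
  obtain ⟨h3, h4⟩ := fac_sum hp h2 (hr ▸ two_pow hQ hr0) (hr ▸ dvd_pow h1 r) hf0
  obtain ⟨z₀, ⟨a, ha⟩, hz1, hmin⟩ := exists_z A.ctx hp (cast_one h1 ▸ isUnit_one) s
    (hf ▸ (Nat.le_mul_of_pos_right f hk0).trans hN)
  rw [← hf] at hmin
  have hz : z₀ ∈ mu Kˣ (p ^ bb Q M p δ) := by
    have h5 := (pow_Q_iff f).1 ((hmin f).2 dvd_rfl)
    rw [ha, Int.natCast_dvd, hp.pow_dvd_iff_le_factorization (Int.natAbs_ne_zero.2 (pow_sub_one_ne_zero hQ hf0))] at h5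
    exact orderOf_dvd_iff_pow_eq_one.1 (ha ▸ hb ▸ pow_dvd_pow p h5)
  have hcz : ι (c ⟨z₀, hz⟩) = z₀ := hc _
  have hc1 : c ⟨z₀, hz⟩ ≠ 1 := fun h => hz1 (by rw [← hcz, h, map_one])
  have hadj : Algebra.adjoin F {((c ⟨z₀, hz⟩ : Eˣ) : E)} = ⊤ := adjoin_eq_top E _ fun i _ hi h => by
    have h5 : c ⟨z₀, hz⟩ ^ Nat.card F ^ i = c ⟨z₀, hz⟩ := Units.ext h
    have h6 := congrArg ι h5
    rw [map_pow, hcz, ← zpow_natCast, Nat.cast_pow, hr, ← pow_mul] at h6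
    rw [hE] at hi ⊢
    exact Nat.dvd_antisymm hi (hrf.dvd_of_dvd_mul_left ((hmin _).1 h6))
  refine ⟨{
    X := G₁ k
    W := Fin k → E
    act := fun x w => (A₁.ρ k x).1.mulVec w
    fm := fun u v => Algebra.trace F E (A₁.bf k u v)
    f := f
    k := k
    R₁ := A₁.t.R k le_rfl
    s := σ
    dt := fun x => Units.map (algebraMap F K).toMonoidHom (nrm F E (Matrix.GeneralLinearGroup.det (A₁.ρ k x)))
    e := k * ∑ i ∈ Finset.range f, Nat.card F ^ i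
    θ₀ := θ₀
    fpos := hf0
    kpos := hk0
    per := hper
    per' := hper'
    gr := A₁.t.gr k le_rfl
    cusp := h0
    sinj := fun y y' h => ?_
    scen := fun y x => A₁.inj k (by rw [map_mul, map_mul, hσ, H623.GU.scl_comm])
    dts := fun y => Units.ext ?_
    ene := mul_ne_zero hk0.ne' h3
    efac := by
      rw [Nat.factorization_mul hk0.ne' h3, Finsupp.add_apply, h4, hb, vz_pow hp h2 hQ h1 hf0,
        Nat.factorization_eq_zero_of_not_dvd hk, zero_add, add_comm]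
    ssc := fun c' y h w => ?_
    dfc := fun θ' hθ => ?_
    step := fun l n hl hn hln => ?_ }⟩
  · have h5 := congrFun ((scl_mulVec (c y) 1).symm.trans
      ((congrArg (fun g => g.1.mulVec 1) ((hσ y).symm.trans ((congrArg _ h).trans (hσ y')))).trans (scl_mulVec (c y') 1)))
      ⟨0, hk0⟩
    simp only [Pi.smul_apply, Pi.one_apply, smul_eq_mul, mul_one, Units.val_inj] at h5
    exact Subtype.ext ((hc y).symm.trans ((congrArg ι h5).trans (hc y')))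
  · have h5 : ((y.1 : Kˣ) : K) = algebraMap E K (c y) := congrArg Units.val (hc y).symm
    have h6 : (scl k (c y)).1.det = (c y : E) ^ k := by
      change (Matrix.scalar (Fin k) (c y : E)).det = _
      rw [Matrix.scalar_apply, Matrix.det_diagonal, Finset.prod_const, Finset.card_univ, Fintype.card_fin]
    change algebraMap F K (Algebra.norm F (A₁.ρ k (σ y)).1.det) = _
    rw [hσ, h6, IsScalarTower.algebraMap_apply F E K, FiniteField.algebraMap_norm_eq_pow_sum, hE,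
      Units.val_pow_eq_pow_val, h5, ← pow_mul, map_pow]
  · have h5 : c y = Units.map (algebraMap F E).toMonoidHom c' := hι ((hc y).trans (h.trans (Units.ext rfl)))
    change (A₁.ρ k (σ y)).1.mulVec w = _
    rw [hσ, scl_mulVec, h5]
    exact algebraMap_smul E (c' : F) w
  · have h5 := dfc hD hL A₁ h𝔐 h2 (dvd_pow h1 f) hδ le_rfl hper' h0 θ' hθ
    rwa [bb, hper', ← pow_mul, ← hper] at h5
  · obtain ⟨ε, h5, h6⟩ := he l n hln
    obtain ⟨j, hj⟩ := exists_lift (A.inj n) ((jj ε).comp ((A₁.ρ k).prodMap (A.ρ l))) fun x =>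
      (h6 _ _).2 ⟨⟨_, rfl⟩, ⟨_, rfl⟩⟩
    replace hj : ∀ x y, A.ρ n (j (x, y)) = jj ε (A₁.ρ k x, A.ρ l y) := fun x y => hj (x, y)
    have hcen := centralizer_jj ε _ hc1 hadj
    have h7 : A.ρ n (j (σ ⟨z₀, hz⟩, 1)) = jj ε (scl k (c ⟨z₀, hz⟩), 1) := by rw [hj, hσ, map_one]
    refine ⟨ε, j, ⟨z₀, hz⟩, h5, fun x y w v => by rw [hj, jj_mulVec], fun x y => ?_, fun x y h => ?_, ?_, ?_⟩
    · change Units.map (algebraMap F K).toMonoidHom (Matrix.GeneralLinearGroup.det (A.ρ n (j (x, y)))) = _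
      rw [hj, det_jj, map_mul]
      rfl
    · have h8 := jj_injective ε ((hj x.1 x.2).symm.trans ((congrArg _ h).trans (hj y.1 y.2)))
      exact Prod.ext (A₁.inj k (congrArg Prod.fst h8)) (A.inj l (congrArg Prod.snd h8))
    · ext g
      have h8 : g ∈ Subgroup.centralizer ({j (σ ⟨z₀, hz⟩, 1)} : Set (G n)) ↔ A.ρ n g ∈ (jj ε).range := by
        rw [hcen, Subgroup.mem_centralizer_singleton_iff, Subgroup.mem_centralizer_singleton_iff, ← h7, ← map_mul,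
          ← map_mul, (A.inj n).eq_iff]
      rw [h8]
      refine ⟨fun ⟨x, hx⟩ => ⟨_, (hj x.1 x.2).symm.trans (congrArg _ hx)⟩, fun ⟨⟨X, Y⟩, h9⟩ => ?_⟩
      obtain ⟨⟨x, rfl⟩, y, rfl⟩ := (h6 X Y).1 ⟨g, h9.symm⟩
      exact ⟨(x, y), A.inj n ((hj x y).trans h9)⟩
    · refine A.t.val hp hf0 (r67 A.ctx hp hf0) A₁.t hn hl le_rfl j _ (z := z₀) (a₀ := a)
        (ha ▸ pow_orderOf_eq_one z₀) hz1 hmin (fun x y u i => ?_) fun x u => ?_
      · rw [A.typ, A.typ, hj, mcol_jj, hE, horb]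
        exact congrArg (· + _) (Finset.sum_congr rfl fun j _ => by rw [A₁.typ])
      · rw [A₁.typ, A₁.typ, map_mul, hσ, mcol_scl]
        exact congrArg (fun t : Kˣ => mcol _ ((t⁻¹ * u : Kˣ) : K)) hcz

end Cel

open Cel

/-- **The cells.** -/
theorem boxC (hA : BoxA) (hD : BoxD) (hL : BoxL) : BoxC := by
  intro F K _ _ _ _ θ Q M _ N p 𝔐 h𝔐 h2 h1 δ hδ hN
  have hp := h𝔐.1
  have key : ∀ (C : H614.GLn.Ctx F θ N M) (ctx : CtxQ θ Q M N), ∃ (s k f : ℕ) (E : IntermediateField F K) (_ : Fintype E),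
      f = orderOf (Q : ZMod p) * p ^ s ∧ Odd f ∧ ¬ p ∣ k ∧ perZ Q M δ = f * k ∧ perZ (Q ^ f) M δ = k ∧ finrank F E = f ∧
      Fintype.card E = Fintype.card F ^ f ∧ H614.GLn.Ctx E θ k M ∧ CtxQ θ (Q ^ f) M k ∧
      ∀ l n, l + f * k = n → finrank F ((Fin k → E) × (Fin l → F)) = n := fun C ctx => by
    obtain ⟨s, k, h3, h4, h5, h6, -⟩ := H157.GLB.exists_split hp ctx.unit (cast_one h1 ▸ isUnit_one) δ
    obtain ⟨f, hf⟩ : ∃ f, f = orderOf (Q : ZMod p) * p ^ s := ⟨_, rfl⟩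
    rw [← hf] at h3 h6
    rw [eD, cast_one h1, one_pow, orderOf_one, one_mul] at h3
    have h7 : Odd f := by
      rw [hf, cast_one h1, orderOf_one, one_mul]
      exact (hp.odd_of_ne_two h2).pow
    rw [h3] at hN
    obtain ⟨E, hE, _⟩ := exists_field_pos C h7.pos ((Nat.le_mul_of_pos_right f h5).trans hN)
    have := Fintype.ofFinite E
    refine ⟨s, k, f, E, this, hf, h7, h4, h3, h6, hE, hE ▸ card_eq_pow_finrank,
      H505.S4536.Ext.ctx_ext C E (hE ▸ hN), ctx_pow ctx h7.pos hN, fun l n h => ?_⟩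
    rw [finrank_prod, finrank_pi_fintype, finrank_fin_fun, ← h, hE, Finset.sum_const, Finset.card_univ, Fintype.card_fin,
      smul_eq_mul, add_comm, mul_comm]
  refine ⟨fun hQ A hρ hbf => ?_, fun q hF hQ A hρ hbf => ?_⟩
  · obtain ⟨s, k, f, E, _, hf, -, hk, h3, h4, hE, hc, C, ctx, hdim⟩ := key A.cF A.ctx
    have h5 : Q ^ f = Fintype.card E := by rw [hc, hQ, Nat.cast_pow]
    obtain ⟨A₁, hρ₁, hbf₁⟩ := (hA E K θ (Q ^ f) M k p hp (p_ne E (h5 ▸ dvd_pow h1 f)) C ctx).1 h5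
    have h6 : (Nat.card F : ℤ) = Q := by rw [hQ, Nat.card_eq_fintype_card]
    refine cell_of hD hL A h𝔐 h2 h1 hδ hf hk h3 h4 (h3 ▸ hN) (h6.trans (pow_one Q).symm) (Nat.coprime_one_right f) one_pos
      E hE A₁ (fun y _ => by rw [hρ₁]; exact ⟨_, rfl⟩) (fun u x i => Finset.sum_congr rfl fun j _ => ?_) fun l n h =>
      ⟨LinearEquiv.ofFinrankEq _ _ ((hdim l n h).trans (finrank_fin_fun F).symm),
        fun x y => by rw [hbf, hbf, hbf₁, map_zero, add_zero], fun X Y => ?_⟩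
    · rw [show Q ^ j = (Nat.card F ^ j : ℕ) by rw [Nat.cast_pow, h6], zpow_natCast, Units.val_pow_eq_pow_val]
    · rw [hρ, hρ, hρ₁]
      exact ⟨fun _ => ⟨⟨_, rfl⟩, _, rfl⟩, fun _ => ⟨_, rfl⟩⟩
  · obtain ⟨s, k, f, E, _, hf, ho, hk, h3, h4, hE, hc, C, ctx, hdim⟩ := key A.cF A.ctx
    have h5 : Q ^ f = -((q ^ f : ℕ) : ℤ) := by rw [hQ, ho.neg_pow, Nat.cast_pow]
    have hcE : Fintype.card E = (q ^ f) ^ 2 := by rw [hc, hF, ← pow_mul, ← pow_mul, mul_comm]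
    obtain ⟨A₁, hρ₁, hbf₁⟩ := (hA E K θ (Q ^ f) M k p hp
      (p_ne E (by rw [hcE, Nat.cast_pow, ← neg_sq, ← h5]; exact dvd_pow (dvd_pow h1 f) 2)) C ctx).2 _ hcE h5
    have h6 : Nat.card F = q ^ 2 := Nat.card_eq_fintype_card.trans hF
    obtain ⟨σ, hσ⟩ := ClassicalGeometry.GUBasic.exists_powHom hF
    refine cell_of hD hL A h𝔐 h2 h1 hδ hf hk h3 h4 (h3 ▸ hN) (r := 2) (by rw [h6, hQ, neg_sq, Nat.cast_pow])
      ho.coprime_two_right two_pos E hE A₁ (fun y hy => ?_) (fun u x i => ?_) fun l n h => ?_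
    · rw [h5, ← neg_add', zpow_neg, inv_eq_one, ← Nat.cast_succ, zpow_natCast] at hy
      rw [hρ₁]
      exact ⟨gsc k y hy, rfl⟩
    · rw [hρ₁, h6]
      subst hQ
      exact sum_orbit_odd ho (fun t => mcol (u : GL (Fin k) E).1 t i)
        (fun t => congrArg (fun c : Col => c i) (mcol_gu hcE u t)) x
    · obtain ⟨ε, hε⟩ := (hermF_tform (k := k) (m := l) hF ho hE hσ).exists_iso (sigma_ne hF hσ) (sigma_sigma hF hσ) hσ
        (hdim l n h)
      refine ⟨ε, fun x y => by rw [hbf, hbf, hbf₁, hε, tform], fun X Y => ?_⟩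
      rw [hρ, hρ, hρ₁, Subgroup.range_subtype, Subgroup.range_subtype, Subgroup.range_subtype]
      exact mem_jj_iff hF ho hE ε hε X Y

end Cfsg.Agent.RC.A
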