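import Cfsg.Agent.RC.A.Amb
import Cfsg.Agent.H941.GU.Tow
import Cfsg.Agent.H577.HT.One
import Cfsg.Agent.S0277
import Cfsg.Agent.ClassicalGeometry.GUBasic

/-!
# RC, type A: the towers (helper60)

* `Tw.card_gl`, `Tw.card_gu` : the orders;
* `Tw.ex_unit` : the roots of unity of order dividing `|F| - 1` are in `F`;
* `boxA`.
-/

set_option autoImplicit false
set_option linter.unusedSectionVars false

namespace Cfsg.Agent.RC.A

open Cfsg
open Cfsg.Agent.H615.GU
open Cfsg.Agent.H794.EM (vz PH tyOne)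
open Cfsg.Agent.ClassicalGeometry
open scoped MatrixGroups

namespace Tw

variable {F K : Type} [Field F] [Fintype F] [Field K] [Algebra F K] {q p : ℕ}

theorem abs_PH (Q : ℤ) (n : ℕ) : (PH Q n).natAbs = ∏ i ∈ Finset.range n, (Q ^ (i + 1) - 1).natAbs := by
  have h : PH Q n = ∏ i ∈ Finset.range n, (Q ^ (i + 1) - 1) := rfl
  rw [h, ← Int.natAbsHom_apply, map_prod]
  rfl

theorem card_gl (n : ℕ) : Nat.card (GL (Fin n) F) =
    Fintype.card F ^ (n * (n - 1) / 2) * (PH (Fintype.card F : ℤ) n).natAbs := by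
  have h0 : (PH (Fintype.card F : ℤ) n).natAbs = ∏ i ∈ Finset.range n, (Fintype.card F ^ (i + 1) - 1) := by
    rw [abs_PH]
    refine Finset.prod_congr rfl fun i _ => ?_
    rw [← Int.natAbs_natCast (Fintype.card F ^ (i + 1) - 1),
      Nat.cast_sub (Nat.one_le_pow _ _ Fintype.card_pos), Nat.cast_pow, Nat.cast_one]
  have h2 : ∏ i ∈ Finset.range n, (Fintype.card F ^ n - Fintype.card F ^ i) =
      ∏ i ∈ Finset.range n, (Fintype.card F ^ i * (Fintype.card F ^ (n - i) - 1)) := by
    refine Finset.prod_congr rfl fun i hi => ?_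
    rw [Finset.mem_range] at hi
    rw [Nat.mul_sub, ← pow_add, mul_one, Nat.add_sub_cancel' hi.le]
  rw [Matrix.card_GL_field, Fin.prod_univ_eq_prod_range (fun i => Fintype.card F ^ n - Fintype.card F ^ i) n, h0, h2,
    Finset.prod_mul_distrib, Finset.prod_pow_eq_pow_sum, Finset.sum_range_id]
  congr 1
  rw [← Finset.prod_range_reflect]
  refine Finset.prod_congr rfl fun i hi => ?_
  rw [Finset.mem_range] at hi
  congr 2
  omega

theorem card_gu (hF : Fintype.card F = q ^ 2) (n : ℕ) : Nat.card (GU n F q) =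
    q ^ (n * (n - 1) / 2) * (PH (-(q : ℤ)) n).natAbs := by
  rw [S0277.result hF, abs_PH]
  congr 1
  refine Finset.prod_congr rfl fun i _ => ?_
  have hq := GUBasic.two_le hF
  have h1 : 1 ≤ q ^ (i + 1) := Nat.one_le_pow _ _ (by omega)
  split_ifs with h
  · have h2 : (-(q : ℤ)) ^ (i + 1) - 1 = -((q ^ (i + 1) + 1 : ℕ) : ℤ) := by
      rw [Odd.neg_pow h.add_one]; push_cast; ring
    rw [h2, Int.natAbs_neg, Int.natAbs_natCast]
  · have h2 : (-(q : ℤ)) ^ (i + 1) - 1 = ((q ^ (i + 1) - 1 : ℕ) : ℤ) := by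
      rw [Even.neg_pow (Nat.not_even_iff_odd.1 h).add_one, Nat.cast_sub h1]; push_cast; ring
    rw [h2, Int.natAbs_natCast]

theorem not_dvd (hp : p.Prime) (hpF : (p : F) ≠ 0) : ¬ p ∣ Fintype.card F := by
  intro h
  have := Fact.mk hp
  have h1 : p ∣ ringChar F := (prime_dvd_char_iff_dvd_card p).2 h
  have h2 : (ringChar F).Prime := CharP.char_is_prime F _
  exact hpF ((ringChar.spec F p).2 ((Nat.prime_dvd_prime_iff_eq hp h2).1 h1 ▸ dvd_refl _))

theorem val_mul {a e : ℕ} {z : ℤ} (hp : p.Prime) (ha : ¬ p ∣ a) (h0 : a ^ e * z.natAbs ≠ 0) :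
    (a ^ e * z.natAbs).factorization p = vz p z := by
  have h : vz p z = z.natAbs.factorization p := rfl
  rw [h, Nat.factorization_mul (left_ne_zero_of_mul h0) (right_ne_zero_of_mul h0), Finsupp.add_apply,
    Nat.factorization_eq_zero_of_not_dvd (fun h1 => ha (hp.dvd_of_dvd_pow h1)), zero_add]

theorem ex_unit [Finite K] {x : Kˣ} (h : x ^ (Fintype.card F - 1) = 1) :
    ∃ c : Fˣ, Units.map (algebraMap F K).toMonoidHom c = x := by
  have hcK := Fintype.ofFinite K
  classical
  let ι : Fˣ →* Kˣ := Units.map (algebraMap F K).toMonoidHom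
  have hι : Function.Injective ι := Units.map_injective (algebraMap F K).injective
  have h1 : (Finset.univ.image fun y : Fˣ => ι y) ⊆
      Finset.univ.filter fun y : Kˣ => y ^ (Fintype.card F - 1) = 1 := by
    intro y hy
    rw [Finset.mem_image] at hy
    obtain ⟨w, -, rfl⟩ := hy
    rw [Finset.mem_filter]
    refine ⟨Finset.mem_univ _, ?_⟩
    rw [← map_pow, ← Fintype.card_units, pow_card_eq_one, map_one]
  have h2 : (Finset.univ.filter fun y : Kˣ => y ^ (Fintype.card F - 1) = 1).card ≤ Fintype.card F - 1 := by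
    have hpos : 0 < Fintype.card F - 1 := by
      have : 1 < Fintype.card F := Fintype.one_lt_card
      omega
    exact IsCyclic.card_pow_eq_one_le hpos
  have h3 : (Finset.univ.image fun y : Fˣ => ι y).card = Fintype.card F - 1 := by
    rw [Finset.card_image_of_injective _ hι, Finset.card_univ, Fintype.card_units]
  have h4 := Finset.eq_of_subset_of_card_le h1 (by rw [h3]; exact h2)
  have h5 : x ∈ Finset.univ.image fun y : Fˣ => ι y := by
    rw [h4, Finset.mem_filter]
    exact ⟨Finset.mem_univ _, h⟩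
  rw [Finset.mem_image] at h5
  obtain ⟨w, -, hw⟩ := h5
  exact ⟨w, hw⟩

theorem dK_eq (n : ℕ) (g : GL (Fin n) F) :
    dK F K n g = Units.map (algebraMap F K).toMonoidHom (Matrix.GeneralLinearGroup.det g) := rfl

theorem zp_card (y : Kˣ) : y ^ ((Fintype.card F : ℤ) - 1) = y ^ (Fintype.card F - 1) := by
  rw [← zpow_natCast, Nat.cast_sub Fintype.card_pos, Nat.cast_one]

theorem zp_neg (y : Kˣ) : y ^ (-(q : ℤ) - 1) = 1 ↔ y ^ (q + 1) = 1 := by
  have h : -(q : ℤ) - 1 = -((q + 1 : ℕ) : ℤ) := by push_cast; ring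
  rw [h, zpow_neg, zpow_natCast, inv_eq_one]

theorem sur_gl {n : ℕ} (hn : 0 < n) (c : Fˣ) : ∃ g : GL (Fin n) F, Matrix.GeneralLinearGroup.det g = c := by
  classical
  have hd : (Matrix.diagonal (Function.update (fun _ : Fin n => (1 : F)) ⟨0, hn⟩ c)).det = c := by
    rw [Matrix.det_diagonal, Finset.prod_update_of_mem (Finset.mem_univ _), Finset.prod_const_one, mul_one]
  exact ⟨Matrix.GeneralLinearGroup.mkOfDetNeZero _ (fun h => c.ne_zero (hd.symm.trans h)), Units.ext hd⟩

end Tw

/-- **The towers.** -/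
theorem boxA : BoxA := by
  classical
  intro F K _ _ _ _ θ Q M _ N p hp hpF C ctx
  have hK := ctx.finK
  have hpc : ¬ p ∣ Fintype.card F := Tw.not_dvd hp hpF
  constructor
  · rintro rfl
    obtain ⟨t, ht⟩ := H941.GU.towG (p := p) ctx C hp hpF
    refine ⟨{ t := t
              ρ := fun n => MonoidHom.id _
              bf := fun _ _ _ => 0
              ctx := ctx
              cF := C
              inj := fun _ => Function.injective_id
              rng := fun n g _ => ⟨g, rfl⟩
              typ := fun n hn g x => ht n hn g x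
              one := fun n hn => H577.HT.typ_one_G ctx (t.T n hn) (fun A x => ht n hn A x)
              card := fun n => ?_
              drng := fun n g => ?_
              dsur := fun n hn y hy => ?_ }, fun _ => rfl, fun _ _ _ => rfl⟩
    · have h0 : Nat.card (GL (Fin n) F) ≠ 0 := Nat.card_pos.ne'
      rw [Tw.card_gl] at h0 ⊢
      exact Tw.val_mul hp hpc h0
    · rw [Tw.zp_card, Tw.dK_eq, ← map_pow, ← Fintype.card_units, pow_card_eq_one, map_one]
    · rw [Tw.zp_card] at hy
      obtain ⟨c, rfl⟩ := Tw.ex_unit (F := F) hy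
      obtain ⟨g, rfl⟩ := Tw.sur_gl hn c
      exact ⟨g, rfl⟩
  · rintro q hF rfl
    have hq := GUBasic.two_le hF
    have hpq : ¬ p ∣ q := fun h => hpc (by rw [hF]; exact h.trans (dvd_pow_self q two_ne_zero))
    obtain ⟨t, ht⟩ := H941.GU.towU (p := p) hF ctx C hp hpF
    refine ⟨{ t := t
              ρ := fun n => (GU n F q).subtype
              bf := fun n u v => hermForm n F q u v
              ctx := ctx
              cF := C
              inj := fun _ => Subtype.val_injective
              rng := fun n g hg => ⟨⟨g, (GUBasic.mem_GU_iff g).2 hg⟩, rfl⟩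
              typ := fun n hn g x => ht n hn g x
              one := fun n hn => H577.HT.typ_one_U ctx (t.T n hn) (ht n hn)
              card := fun n => ?_
              drng := fun n g => ?_
              dsur := fun n hn y hy => ?_ }, fun _ => rfl, fun _ _ _ => rfl⟩
    · have h0 : Nat.card (GU n F q) ≠ 0 := Nat.card_pos.ne'
      rw [Tw.card_gu hF] at h0 ⊢
      exact Tw.val_mul hp hpq h0
    · have h1 : Matrix.GeneralLinearGroup.det ((GU n F q).subtype g) ^ (q + 1) = 1 :=
        (mem_rootsOfUnity _ _).1 (GUBasic.detHom n hF g).2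
      rw [Tw.zp_neg, Tw.dK_eq, ← map_pow, h1, map_one]
    · rw [Tw.zp_neg] at hy
      have h1 : y ^ (Fintype.card F - 1) = 1 := by
        have h2 : Fintype.card F - 1 = (q + 1) * (q - 1) := by
          rw [hF, ← Nat.sq_sub_sq, one_pow]
        rw [h2, pow_mul, hy, one_pow]
      obtain ⟨c, rfl⟩ := Tw.ex_unit (F := F) h1
      have h3 : c ^ (q + 1) = 1 := by
        rw [← map_pow] at hy
        exact Units.map_injective (algebraMap F K).injective (hy.trans (map_one _).symm)
      obtain ⟨g, hg⟩ := GUBasic.detHom_surjective (n := n) hn hF ⟨c, (mem_rootsOfUnity _ _).2 h3⟩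
      refine ⟨g, ?_⟩
      have h4 : Matrix.GeneralLinearGroup.det ((GU n F q).subtype g) = c := congrArg Subtype.val hg
      rw [Tw.dK_eq, h4]

end Cfsg.Agent.RC.A
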