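import Cfsg.Agent.RC.A.Amb
import Cfsg.Agent.LV.A.Tow

/-!
# RC, type A: the valuation of the degrees if `Q ≡ 1` modulo `p` (helper60)
-/

set_option autoImplicit false

namespace Cfsg.Agent.RC.A

open Cfsg Finset
open Cfsg.Agent.H577.GLB.Std Cfsg.Agent.H614.GLn.RSt Cfsg.Agent.H623.GU Cfsg.Agent.H112.GLB Cfsg.Agent.H615.GU
open Cfsg.Agent.H794.EM Cfsg.Agent.LV.A

namespace Dg

theorem vz_fact (r n : ℕ) : vz r (n.factorial : ℤ) = ∑ x ∈ range n, (x + 1).factorization r := by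
  rw [← prod_range_add_one_eq_factorial, Nat.cast_prod, vz_prod _ _ _ fun x _ => Nat.cast_ne_zero.2 x.succ_ne_zero]
  exact sum_congr rfl fun x _ => vz_natCast r _

/-- one orbit -/
theorem val_one {m r : ℕ} (hr : r.Prime) (ho : Odd r) {T : ℤ} (hT : 2 ≤ |T|) (h : (r : ℤ) ∣ T - 1) {β : Fin m → ℕ}
    (hβ : StrictMono β) : vz r (VD T β) + bsz β * vz r (T - 1) ≤ vz r (PB T β) ∧
      vz r (PB T β) ≤ vz r (VD T β) + (bsz β * vz r (T - 1) + (bsz β).factorial.factorization r) := by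
  have hrT : ¬ (r : ℤ) ∣ T := fun e =>
    (Nat.prime_iff_prime_int.1 hr).not_dvd_one (by simpa using dvd_sub e h)
  have hd : orderOf (T : ZMod r) = 1 := by
    rw [orderOf_eq_one_iff, ← sub_eq_zero, ← Int.cast_one, ← Int.cast_sub]
    exact (ZMod.intCast_zmod_eq_zero_iff_dvd _ _).2 h
  have hf : ∀ k, 0 < k → vz r (T ^ k - 1) = vz r (T - 1) + k.factorization r := fun k hk => by
    have h4 := H421.HT.fac_factor hr ho hT hk
    rwa [hd, if_pos (one_dvd k), pow_one, Nat.div_one] at h4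
  have hp : ∀ {j : Fin m}, ∀ i ∈ Iio j, 0 < β j - β i := fun i hi => Nat.sub_pos_of_lt (hβ (mem_Iio.1 hi))
  have h1 : vz r (PB T β) = (∑ j, β j) * vz r (T - 1) + ∑ j, ∑ x ∈ range (β j), (x + 1).factorization r := by
    rw [PB, vz_prod _ _ _ fun _ _ => PH_ne hT _, sum_mul, ← sum_add_distrib]
    refine sum_congr rfl fun j _ => ?_
    rw [PH, vz_prod _ _ _ fun i _ => sub_ne_zero.2 (pow_ne_one hT (Nat.succ_pos i)),
      sum_congr rfl fun i _ => hf _ (Nat.succ_pos i), sum_add_distrib, sum_const, card_range, smul_eq_mul]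
  have h2 : vz r (VD T β) = (∑ j : Fin m, (j : ℕ)) * vz r (T - 1) + ∑ j, ∑ i ∈ Iio j, (β j - β i).factorization r := by
    have h0 : ∀ j : Fin m, ∀ i ∈ Iio j, T ^ (β j - β i) - 1 ≠ 0 := fun j i hi => sub_ne_zero.2 (pow_ne_one hT (hp i hi))
    have h0' : ∀ j : Fin m, ∀ i ∈ Iio j, T ^ β j - T ^ β i ≠ 0 := fun j i hi => by
      rw [VD_fac hβ hi]
      exact mul_ne_zero (pow_ne_zero _ (ne_zero_of_two hT)) (h0 j i hi)
    rw [VD, vz_prod _ _ _ fun j _ => prod_ne_zero_iff.2 (h0' j), sum_mul, ← sum_add_distrib]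
    refine sum_congr rfl fun j _ => ?_
    rw [vz_prod _ _ _ (h0' j), ← Fin.card_Iio j, ← smul_eq_mul, ← sum_const, ← sum_add_distrib]
    refine sum_congr rfl fun i hi => ?_
    rw [VD_fac hβ hi, vz_mul (pow_ne_zero _ (ne_zero_of_two hT)) (h0 j i hi), vz_pow hr hrT, zero_add, hf _ (hp i hi)]
  have h3 : ∑ j, ∑ i ∈ Iio j, (β j - β i).factorization r ≤ ∑ j, ∑ x ∈ range (β j), (x + 1).factorization r :=
    sum_le_sum fun j _ => (Nat.le_add_left _ _).trans_eq (sum_split hβ (fun k => k.factorization r) j).symm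
  have hs := sum_eq_bsz hβ
  have h5 : ∏ i : Fin m, ∏ j ∈ Ioi i, ((β j : ℤ) - β i) = ∏ j : Fin m, ∏ i ∈ Iio j, ((β j - β i : ℕ) : ℤ) := by
    rw [prod_comm' (t' := univ) (s' := fun j => Iio j) fun i j => by simp]
    exact prod_congr rfl fun j _ => prod_congr rfl fun i hi => (Nat.cast_sub (hβ (mem_Iio.1 hi)).le).symm
  have h6 : ∀ j : Fin m, ∀ i ∈ Iio j, ((β j - β i : ℕ) : ℤ) ≠ 0 := fun j i hi => Nat.cast_ne_zero.2 (hp i hi).ne'
  have h7 : ∀ n : ℕ, (n.factorial : ℤ) ≠ 0 := fun n => Nat.cast_ne_zero.2 n.factorial_ne_zero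
  have h4 := congrArg (vz r) (H614.FM_ones_formula _ β hs)
  rw [h5, vz_mul (H614.FM_ones_pos _ hβ hs).ne' (prod_ne_zero_iff.2 fun _ _ => h7 _),
    vz_mul (h7 _) (prod_ne_zero_iff.2 fun j _ => prod_ne_zero_iff.2 (h6 j)), vz_natCast, vz_prod _ _ _ fun _ _ => h7 _,
    vz_prod _ _ _ fun j _ => prod_ne_zero_iff.2 (h6 j), sum_congr rfl fun j _ => vz_fact r (β j),
    sum_congr rfl fun j _ => (vz_prod _ _ _ (h6 j)).trans (sum_congr rfl fun i _ => vz_natCast r _)] at h4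
  rw [h1, h2, hs, add_mul]
  omega

end Dg

/-- **Degrees.** -/
theorem boxD : BoxD := by
  rintro K _ θ Q M _ N p G _ _ hp hp2 hQ ctx t n hn h0 m χ T ⟨s, hs⟩
  have hD : ((s : ℤ) : ℂ) * (charDegree (χ : G n → ℂ) : ℂ) = ph (Q : ℂ) n * eps Q M (SchP Q M T.t) := by
    rw [← om_one ctx t hn h0 (schP_mem_hom ctx.unit T), ← Blocks.Basic.irr_one_eq_charDegree χ.2]
    exact (congrFun hs 1).symm
  choose u A h using fun c : ZMod M => eps_SS ctx.unit ctx.two c (T.mono c)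
  have hT : ∀ c : ZMod M, 2 ≤ |Q ^ perZ Q M c| := fun c => two_pow ctx.two (perZ_pos ctx.unit c)
  have h1 : (s : ℤ) * charDegree (χ : G n → ℂ) * ∏ c ∈ repsZ Q M, (PB (Q ^ perZ Q M c) (T.t c) * (Q ^ perZ Q M c) ^ A c) =
      PH Q n * ∏ c ∈ repsZ Q M, ((u c : ℤ) * VD (Q ^ perZ Q M c) (T.t c)) := by
    apply Int.cast_injective (α := ℂ)
    rw [Int.cast_mul, Int.cast_mul, Int.cast_natCast, hD, Int.cast_mul, PH_cast, Int.cast_prod, Int.cast_prod,
      SchP_eq, prodS, map_prod, mul_assoc, ← prod_mul_distrib]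
    congr 1
    exact prod_congr rfl fun c _ => h c
  have h3 : ∀ c : ZMod M, PB (Q ^ perZ Q M c) (T.t c) * (Q ^ perZ Q M c) ^ A c ≠ 0 := fun c =>
    mul_ne_zero (PB_ne (hT c) _) (pow_ne_zero _ (ne_zero_of_two (hT c)))
  have h4 : ∀ c : ZMod M, (u c : ℤ) * VD (Q ^ perZ Q M c) (T.t c) ≠ 0 := fun c =>
    mul_ne_zero (u c).ne_zero (VD_ne (hT c) (T.mono c))
  have h5 : (s : ℤ) * charDegree (χ : G n → ℂ) ≠ 0 :=
    mul_ne_zero s.ne_zero (Nat.cast_ne_zero.2 (Blocks.Basic.charDegree_pos χ.2).ne')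
  have h6 := congrArg (vz p) h1
  rw [vz_mul h5 (prod_ne_zero_iff.2 fun c _ => h3 c), vz_unit, vz_natCast,
    vz_mul (PH_ne ctx.two n) (prod_ne_zero_iff.2 fun c _ => h4 c), vz_prod _ _ _ fun c _ => h3 c,
    vz_prod _ _ _ fun c _ => h4 c] at h6
  have h8 : ∀ c : ZMod M, (p : ℤ) ∣ Q ^ perZ Q M c - 1 := fun c => hQ.trans (sub_one_dvd_pow_sub_one Q _)
  have h7 := fun c : ZMod M => Dg.val_one hp (hp.odd_of_ne_two hp2) (hT c) (h8 c) (T.mono c)
  rw [sum_congr rfl fun c _ => vz_unit (u c) _, sum_congr rfl fun c _ => (vz_mul (PB_ne (hT c) _)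
    (pow_ne_zero _ (ne_zero_of_two (hT c)))).trans (by
      rw [vz_pow hp (fun e => (Nat.prime_iff_prime_int.1 hp).not_dvd_one (by simpa using dvd_sub e (h8 c))), add_zero])] at h6
  have a1 := sum_le_sum fun c (_ : c ∈ repsZ Q M) => (h7 c).1
  have a2 := sum_le_sum fun c (_ : c ∈ repsZ Q M) => (h7 c).2
  rw [sum_add_distrib] at a1 a2
  unfold lo hi bb
  omega

end Cfsg.Agent.RC.A
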