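import Mathlib.GroupTheory.Perm.DomMulAct
import Mathlib.Data.Nat.Choose.Factorization
import Mathlib.Data.Nat.Factorial.BigOperators
import Mathlib.Data.Nat.Factorization.Basic
import Mathlib.Data.Fintype.BigOperators
import Mathlib.SetTheory.Cardinal.Finite
import Mathlib.SetTheory.Cardinal.NatCard
import Mathlib.Algebra.BigOperators.Ring.Finset
import Mathlib.Algebra.Order.BigOperators.Group.Finset

/-!
# RC, type A (helper52): counting for the labels

* `fac_pow_mul`, `fac_sum` : valuations of factorials;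
* `card_lab` : the valuation of the order of the stabilizer of a labelling;
* `up_main` : the upper bound; `part_main` : the partition of the points.
-/

set_option autoImplicit false

namespace Cfsg.Agent.RC.A.Lab

open Equiv

theorem fac_pow_mul {p : ℕ} (hp : p.Prime) (u m : ℕ) :
    m * u + m.factorial.factorization p ≤ (p ^ u * m).factorial.factorization p := by
  induction u with
  | zero => simp
  | succ u ih =>
    rw [pow_succ', mul_assoc, Nat.factorization_factorial_mul hp, Nat.mul_succ]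
    have h1 : m ≤ p ^ u * m := Nat.le_mul_of_pos_left m (pow_pos hp.pos u)
    omega

theorem fac_sum {α : Type} {p : ℕ} (hp : p.Prime) (s : Finset α) (u m : α → ℕ) :
    ∑ c ∈ s, (m c * u c + (m c).factorial.factorization p) ≤
      (∑ c ∈ s, p ^ u c * m c).factorial.factorization p := by
  have h1 := Nat.prod_factorial_dvd_factorial_sum s (fun c => p ^ u c * m c)
  have h2 := Nat.factorization_le_factorization_of_dvd_right (a := p) h1
    (Finset.prod_ne_zero_iff.2 fun c _ => Nat.factorial_ne_zero _) (Nat.factorial_ne_zero _)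
  rw [Nat.factorization_prod_apply fun c _ => Nat.factorial_ne_zero _] at h2
  exact (Finset.sum_le_sum fun c _ => fac_pow_mul hp (u c) (m c)).trans h2

theorem card_lab {α Ω : Type} [Fintype α] [Fintype Ω] (p : ℕ) (lab : Ω → α) (L : Subgroup (Perm Ω))
    (hL : ∀ σ, σ ∈ L ↔ ∀ i, lab (σ i) = lab i) :
    (Nat.card L).factorization p = ∑ δ, (Nat.card {i // lab i = δ}).factorial.factorization p := by
  classical
  have h1 : Nat.card L = Fintype.card {g : Perm Ω // lab ∘ g = lab} := by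
    rw [← Nat.card_eq_fintype_card]
    exact Nat.card_congr (Equiv.subtypeEquivRight fun σ => (hL σ).trans funext_iff.symm)
  rw [h1, DomMulAct.stabilizer_card, Nat.factorization_prod_apply fun c _ => Nat.factorial_ne_zero _]
  exact Finset.sum_congr rfl fun δ _ => by rw [Nat.card_eq_fintype_card]

theorem sum_lab {α Ω : Type} [Fintype Ω] (R : Finset α) (lab : Ω → α) (hR : ∀ i, lab i ∈ R) (b : α → ℕ) :
    ∑ i, b (lab i) = ∑ δ ∈ R, Nat.card {i // lab i = δ} * b δ := by
  classical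
  rw [← Finset.sum_fiberwise_of_maps_to (s := Finset.univ) (t := R) (g := lab) fun i _ => hR i]
  refine Finset.sum_congr rfl fun δ _ => ?_
  rw [Finset.sum_congr rfl (g := fun _ => b δ) fun i hi => by rw [(Finset.mem_filter.1 hi).2],
    Finset.sum_const, smul_eq_mul, Nat.card_eq_fintype_card, Fintype.card_subtype]

section

variable {α Ω : Type} [DecidableEq α] [Fintype Ω] {p : ℕ} {R : Finset α} {g : α → α} {u m b : α → ℕ} {lab : Ω → α}

theorem up_main [Fintype α] (hp : p.Prime) (hg : ∀ c, g c ∈ R) (hb : ∀ c, b c = b (g c) + u c)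
    (hR : ∀ i, lab i ∈ R)
    (hc : ∀ δ ∈ R, Nat.card {i // lab i = δ} = ∑ c ∈ R.filter (fun c => g c = δ), p ^ u c * m c)
    (L : Subgroup (Perm Ω)) (hL : ∀ σ, σ ∈ L ↔ ∀ i, lab (σ i) = lab i) :
    ∑ c ∈ R, (m c * b c + (m c).factorial.factorization p) ≤ ∑ i, b (lab i) + (Nat.card L).factorization p := by
  rw [card_lab p lab L hL, sum_lab R lab hR b,
    ← Finset.sum_fiberwise_of_maps_to (s := R) (t := R) (g := g) fun c _ => hg c]
  have h1 : ∑ δ ∈ R, (Nat.card {i // lab i = δ}).factorial.factorization p ≤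
      ∑ δ, (Nat.card {i // lab i = δ}).factorial.factorization p :=
    Finset.sum_le_sum_of_subset (Finset.subset_univ R)
  refine le_trans ?_ (Nat.add_le_add_left h1 _)
  rw [← Finset.sum_add_distrib]
  refine Finset.sum_le_sum fun δ hδ => ?_
  rw [hc δ hδ]
  refine le_trans ?_ (Nat.add_le_add_left (fac_sum hp _ u m) _)
  rw [Finset.sum_mul, ← Finset.sum_add_distrib]
  refine Finset.sum_le_sum fun c hcδ => ?_
  rw [hb c, (Finset.mem_filter.1 hcδ).2, mul_add, add_assoc]
  exact Nat.add_le_add_right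
    (Nat.mul_le_mul_right _ (Nat.le_mul_of_pos_left _ (pow_pos hp.pos _))) _

theorem card_fib (p : ℕ) (R : Finset α) (g : α → α) (u m : α → ℕ) (δ : α) :
    Nat.card {x : Σ j : (Σ c : R, Fin (m c)), Fin (p ^ u j.1) // g x.1.1 = δ} =
      ∑ c ∈ R.filter (fun c => g c = δ), p ^ u c * m c := by
  rw [Nat.card_eq_fintype_card, Fintype.card_subtype, Finset.card_filter, Fintype.sum_sigma, Fintype.sum_sigma,
    Finset.sum_filter, ← Finset.sum_coe_sort R]
  refine Finset.sum_congr rfl fun c _ => ?_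
  show (∑ _x : Fin (m c), ∑ _y : Fin (p ^ u c), if g c = δ then 1 else 0) = if g c = δ then p ^ u c * m c else 0
  rw [Finset.sum_const, Finset.sum_const, Finset.card_univ, Finset.card_univ, Fintype.card_fin, Fintype.card_fin,
    smul_eq_mul, smul_eq_mul]
  split_ifs
  · rw [mul_one, mul_comm]
  · rw [mul_zero, mul_zero]

theorem part_main (hp : p.Prime) (hg : ∀ c, g c ∈ R) (hb : ∀ c, b c = b (g c) + u c) (hR : ∀ i, lab i ∈ R)
    (hc : ∀ δ ∈ R, Nat.card {i // lab i = δ} = ∑ c ∈ R.filter (fun c => g c = δ), p ^ u c * m c) :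
    ∃ (I : Type) (_ : Fintype I) (ρ : Ω → I) (rp : I → Ω) (w : I → ℕ), (∀ i, lab (rp (ρ i)) = lab i) ∧
      (∀ j, Nat.card {i // ρ i = j} = p ^ w j) ∧ ∑ j, (b (lab (rp j)) + w j) = ∑ c ∈ R, m c * b c ∧
      (Fintype.card I < 2 → 2 ≤ Fintype.card Ω →
        ∃ c ∈ R, m c = 1 ∧ 0 < u c ∧ ∀ c' ∈ R, c' ≠ c → m c' = 0) := by
  have h1 : ∀ δ, Nonempty ({i // lab i = δ} ≃
      {x : Σ j : (Σ c : R, Fin (m c)), Fin (p ^ u j.1) // g x.1.1 = δ}) := by
    intro δ
    by_cases hδ : δ ∈ R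
    · exact Finite.card_eq.1 ((hc δ hδ).trans (card_fib p R g u m δ).symm)
    · have : IsEmpty {i // lab i = δ} := ⟨fun i => hδ (i.2 ▸ hR i.1)⟩
      have : IsEmpty {x : Σ j : (Σ c : R, Fin (m c)), Fin (p ^ u j.1) // g x.1.1 = δ} :=
        ⟨fun x => hδ (x.2 ▸ hg _)⟩
      exact ⟨Equiv.equivOfIsEmpty _ _⟩
  let e : Ω ≃ Σ j : (Σ c : R, Fin (m c)), Fin (p ^ u j.1) :=
    Equiv.ofFiberEquiv (f := lab) (g := fun x => g x.1.1) fun δ => (h1 δ).some
  have he : ∀ i, g (e i).1.1 = lab i := fun i => Equiv.ofFiberEquiv_map (fun δ => (h1 δ).some) i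
  have he' : ∀ x, lab (e.symm x) = g x.1.1 := fun x => by rw [← he, e.apply_symm_apply]
  refine ⟨Σ c : R, Fin (m c), inferInstance, fun i => (e i).1, fun j => e.symm ⟨j, ⟨0, pow_pos hp.pos _⟩⟩,
    fun j => u j.1, fun i => ?_, fun j => ?_, ?_, fun hI hΩ => ?_⟩
  · rw [he', he]
  · have e2 : {i // (e i).1 = j} ≃ Fin (p ^ u j.1) :=
      (e.subtypeEquiv (q := fun x => x.1 = j) fun _ => Iff.rfl).trans (Equiv.sigmaSubtype j)
    rw [Nat.card_congr e2, Nat.card_eq_fintype_card, Fintype.card_fin]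
  · rw [Finset.sum_congr rfl (g := fun j : (Σ c : R, Fin (m c)) => b j.1) fun j _ => by
      rw [he']; exact (hb _).symm, Fintype.sum_sigma, ← Finset.sum_coe_sort R]
    refine Finset.sum_congr rfl fun c _ => ?_
    simp only [Finset.sum_const, Finset.card_univ, Fintype.card_fin, smul_eq_mul]
  · obtain ⟨i₀⟩ : Nonempty Ω := Fintype.card_pos_iff.1 (by omega)
    have hs : Subsingleton (Σ c : R, Fin (m c)) := Fintype.card_le_one_iff_subsingleton.1 (by omega)
    obtain ⟨⟨⟨c, a⟩, -⟩⟩ : Nonempty (Σ j : (Σ c : R, Fin (m c)), Fin (p ^ u j.1)) := ⟨e i₀⟩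
    refine ⟨c.1, c.2, ?_, ?_, fun c' hc' hne => ?_⟩
    · have h2 := a.2
      by_contra h3
      have h4 : (⟨c, ⟨0, by omega⟩⟩ : Σ c : R, Fin (m c)) = ⟨c, ⟨1, by omega⟩⟩ := Subsingleton.elim _ _
      have h5 := congrArg (fun x : Σ c : R, Fin (m c) => (x.2 : ℕ)) h4
      simp at h5
    · by_contra h3
      have h4 : u c.1 = 0 := by omega
      rw [Fintype.card_congr e, Fintype.card_sigma, Fintype.sum_subsingleton _ ⟨c, a⟩, Fintype.card_fin] at hΩ
      simp only [h4, pow_zero] at hΩ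
      omega
    · by_contra h3
      have h4 : (⟨⟨c', hc'⟩, ⟨0, Nat.pos_of_ne_zero h3⟩⟩ : Σ c : R, Fin (m c)) = ⟨c, a⟩ := Subsingleton.elim _ _
      exact hne (congrArg (fun x : Σ c : R, Fin (m c) => x.1.1) h4)

end

end Cfsg.Agent.RC.A.Lab
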