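import Cfsg.Agent.RC.A.Amb
import Cfsg.Agent.RC.A.LabA
import Cfsg.Agent.H505.S4536.DC.Span
import Cfsg.Agent.H157.GLB.DG
import Cfsg.Agent.H421.HT.Num
import Cfsg.Agent.H76.GLB.Orbit
import Mathlib.NumberTheory.Basic

/-!
# RC, type A (helper52): the labels

* `exists_u`, `bb_eq`, `fib` : the arithmetic of the periods;
* `kill` : the element `(Q ^ (n / p) - 1) c` has order dividing `p`;
* `schP_one` : a label with one orbit of size one is cuspidal;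
* `boxL`.
-/

set_option autoImplicit false

namespace Cfsg.Agent.RC.A

open Cfsg Equiv
open Cfsg.Agent.H577.GLB.Std Cfsg.Agent.H614.GLn.RSt
open Cfsg.Agent.H794.EM (vz vz_mul)
open Cfsg.Agent.H505.S4536.DC (pu pu_spec pu_pu pReg_iff kq kq_mul Sf sfun_eq Sf_eq_zero sum_kq)

namespace Lab

section

variable {Q : ℤ} {M p : ℕ} [NeZero M]

theorem dvd_pow (hQ1 : (p : ℤ) ∣ Q - 1) (k : ℕ) : (p : ℤ) ∣ Q ^ k - 1 := by
  have h := sub_dvd_pow_sub_pow Q 1 k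
  rw [one_pow] at h
  exact hQ1.trans h

theorem exists_kill (hp : p.Prime) (c : ZMod M) : ∃ j : ℕ, (p : ZMod M) ^ j * (c - pu M p * c) = 0 :=
  ((pu_spec hp).2.2.1 _).2 (by rw [mul_sub, pu_pu hp, sub_self])

theorem exists_u (hp : p.Prime) (hQ1 : (p : ℤ) ∣ Q - 1) (hQ : IsUnit (Q : ZMod M)) (c : ZMod M) :
    ∃ u : ℕ, kq Q M p c = p ^ u := by
  obtain ⟨j, hj⟩ := exists_kill (M := M) hp c
  have h1 := dvd_sub_pow_of_dvd_sub (p := p) (a := Q ^ perZ Q M (pu M p * c)) (b := 1) (dvd_pow hQ1 _) j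
  rw [one_pow, ← pow_mul] at h1
  obtain ⟨v, hv⟩ := h1
  have h2 : ((Q : ZMod M) ^ (perZ Q M (pu M p * c) * p ^ j) - 1) * (c - pu M p * c) = 0 := by
    have h3 := congrArg (Int.cast : ℤ → ZMod M) hv
    push_cast at h3
    rw [h3, pow_succ]
    linear_combination (p : ZMod M) * (v : ZMod M) * hj
  have h3 : (Q : ZMod M) ^ (perZ Q M (pu M p * c) * p ^ j) * (pu M p * c) = pu M p * c :=
    (pow_mul_eq_iff _ _).2 (Dvd.intro _ rfl)
  have h4 : perZ Q M c ∣ perZ Q M (pu M p * c) * p ^ j := by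
    rw [← pow_mul_eq_iff]
    linear_combination h2 + h3
  rw [← kq_mul (p := p) c, mul_comm] at h4
  obtain ⟨u, -, hu⟩ := (Nat.dvd_prime_pow hp).1 (Nat.dvd_of_mul_dvd_mul_left (perZ_pos hQ _) h4)
  exact ⟨u, hu⟩

omit [NeZero M] in
theorem vz_pow (hp : p.Prime) (hp2 : p ≠ 2) (hQ1 : (p : ℤ) ∣ Q - 1) (hQ2 : 2 ≤ |Q|) {k : ℕ} (hk : 0 < k) :
    vz p (Q ^ k - 1) = vz p (Q - 1) + k.factorization p := by
  have h1 := H421.HT.pow_sub_one_ne hQ2 one_pos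
  rw [pow_one] at h1
  exact H421.HT.fac_pow hp (hp.odd_of_ne_two hp2) hQ1 h1 hk (H421.HT.pow_sub_one_ne hQ2 hk)

theorem bb_eq (hp : p.Prime) (hp2 : p ≠ 2) (hQ1 : (p : ℤ) ∣ Q - 1) (hQ2 : 2 ≤ |Q|) (hQ : IsUnit (Q : ZMod M))
    {c : ZMod M} {u : ℕ} (hu : kq Q M p c = p ^ u) : bb Q M p c = bb Q M p (canon Q M (pu M p * c)) + u := by
  unfold bb
  rw [vz_pow hp hp2 hQ1 hQ2 (perZ_pos hQ _), vz_pow hp hp2 hQ1 hQ2 (perZ_pos hQ _),
    ← perZ_of_same hQ (sameZ_canon (pu M p * c)), ← kq_mul (p := p) c, hu,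
    Nat.factorization_mul (pow_pos hp.pos u).ne' (perZ_pos hQ _).ne', Finsupp.add_apply, hp.factorization_pow,
    Finsupp.single_eq_same]
  omega

open Classical in
theorem fib (hp : p.Prime) (hQ : IsUnit (Q : ZMod M)) {m n : ℕ} (t T : LabZ Q M m n) (ht : POnly M p t.t)
    (hT : SameFam Q M p T.t t.t) {δ : ZMod M} (hδ : δ ∈ repsZ Q M) :
    ∑ c ∈ (repsZ Q M).filter (fun c => canon Q M (pu M p * c) = δ), kq Q M p c * bsz (T.t c) = bsz (t.t δ) := by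
  rw [sum_kq hQ T.orb (mem_repsZ.1 hδ)]
  by_cases h : PReg M p δ
  · rw [← sfun_eq hp T.t h, (hT δ h).1, H157.GLB.sfun_of_pOnly hp ht h]
  · rw [ht δ h, Sf_eq_zero hp T.t fun h1 => h ((pReg_iff hp δ).2 h1)]

theorem kill (hp : p.Prime) (hp2 : p ≠ 2) (hQ1 : (p : ℤ) ∣ Q - 1) (hQ2 : 2 ≤ |Q|) (hQ : IsUnit (Q : ZMod M))
    {c : ZMod M} {u : ℕ} (hu : kq Q M p c = p ^ u) (h0 : 0 < u) :
    p ∣ perZ Q M c ∧ (p : ZMod M) * (((Q : ZMod M) ^ (perZ Q M c / p) - 1) * c) = 0 := by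
  obtain ⟨w, rfl⟩ : ∃ w, u = w + 1 := ⟨u - 1, by omega⟩
  have hf := perZ_pos hQ (pu M p * c)
  have h1 : perZ Q M c = p * (p ^ w * perZ Q M (pu M p * c)) := by
    rw [← kq_mul (p := p) c, hu, pow_succ', mul_assoc]
  have h2 : perZ Q M c / p = p ^ w * perZ Q M (pu M p * c) := by rw [h1, Nat.mul_div_cancel_left _ hp.pos]
  refine ⟨Dvd.intro _ h1.symm, ?_⟩
  rw [h2]
  generalize hk : p ^ w * perZ Q M (pu M p * c) = k at h1
  have hk0 : 0 < k := hk ▸ Nat.mul_pos (pow_pos hp.pos w) hf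
  have h3 : (Q : ZMod M) ^ k * (pu M p * c) = pu M p * c :=
    (pow_mul_eq_iff _ _).2 (hk ▸ Dvd.intro_left _ rfl)
  obtain ⟨j, hj⟩ := exists_kill (M := M) hp c
  have h4 : (p ^ j) • (((Q : ZMod M) ^ k - 1) * c) = 0 := by
    rw [nsmul_eq_mul, Nat.cast_pow]
    linear_combination ((Q : ZMod M) ^ k - 1) * hj + (p : ZMod M) ^ j * h3
  obtain ⟨S, hS⟩ := sub_dvd_pow_sub_pow (Q ^ k) 1 p
  rw [one_pow, ← pow_mul, mul_comm k p] at hS
  have hne := H421.HT.pow_sub_one_ne hQ2 (Nat.mul_pos hp.pos hk0)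
  have hS0 : S ≠ 0 := fun h => hne (by rw [hS, h, mul_zero])
  have h5 : vz p S = 1 := by
    have h6 := vz_pow hp hp2 hQ1 hQ2 (Nat.mul_pos hp.pos hk0)
    rw [hS, vz_mul (H421.HT.pow_sub_one_ne hQ2 hk0) hS0, vz_pow hp hp2 hQ1 hQ2 hk0,
      Nat.factorization_mul hp.pos.ne' hk0.ne', Finsupp.add_apply, hp.factorization_self] at h6
    omega
  have h6 : S • (((Q : ZMod M) ^ k - 1) * c) = 0 := by
    have h7 := congrArg (Int.cast : ℤ → ZMod M) hS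
    push_cast at h7
    have h8 : (Q : ZMod M) ^ (p * k) * c = c := (pow_mul_eq_iff _ _).2 (h1 ▸ dvd_rfl)
    rw [zsmul_eq_mul]
    linear_combination h8 - c * h7
  obtain ⟨i, -, hi⟩ := (Nat.dvd_prime_pow hp).1 (addOrderOf_dvd_of_nsmul_eq_zero h4)
  have h7 : p ^ i ∣ S.natAbs := by
    rw [← hi, ← Int.natCast_dvd]
    exact addOrderOf_dvd_iff_zsmul_eq_zero.2 h6
  have h8 : i ≤ 1 := h5 ▸ (hp.pow_dvd_iff_le_factorization (Int.natAbs_ne_zero.2 hS0)).1 h7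
  rw [← nsmul_eq_mul, ← addOrderOf_dvd_iff_nsmul_eq_zero, hi]
  exact (pow_dvd_pow p h8).trans (pow_one p).dvd

omit [NeZero M] in
theorem shape_one {m : ℕ} {β : Fin m → ℕ} (h : StrictMono β) (h1 : bsz β = 1) (i : Fin m) :
    β i = if (i : ℕ) + 1 = m then m else i := by
  obtain ⟨j, hj, hd⟩ := H76.GLB.exists_dn h (by omega)
  have h2 := H76.GLB.bsz_dn h hj hd
  have h3 := H76.GLB.eq_idb hd (by omega)
  have h4 : β j = j + 1 := by
    have h5 := congrFun h3 j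
    rw [H614.dn_self] at h5
    have h6 : β j - 1 = j := h5
    omega
  have h5 : ∀ k, k ≠ j → β k = k := fun k hk => by
    have h6 := congrFun h3 k
    rwa [H614.dn_ne β 1 hk] at h6
  have h6 : (j : ℕ) + 1 = m := by
    by_contra h7
    have h8 : (j : ℕ) + 1 < m := by have := j.2; omega
    have h9 : j < ⟨(j : ℕ) + 1, h8⟩ := Nat.lt_succ_self _
    have h10 := h h9
    rw [h4, h5 _ h9.ne'] at h10
    exact lt_irrefl _ h10
  by_cases hi : i = j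
  · rw [hi, if_pos h6, h4, h6]
  · rw [if_neg fun h7 => hi (Fin.ext (by omega)), h5 i hi]

theorem schP_one (hQ : IsUnit (Q : ZMod M)) {m n : ℕ} (T : LabZ Q M m n) {c : ZMod M} (hc : c ∈ repsZ Q M)
    (h1 : bsz (T.t c) = 1) (h0 : ∀ c' ∈ repsZ Q M, c' ≠ c → bsz (T.t c') = 0) :
    perZ Q M c = n ∧ SchP Q M T.t = rv Q M (perZ Q M c) c := by
  classical
  constructor
  · rw [← T.sum, ← nuP_deg hQ T.t T.orb, Finset.sum_eq_single c (fun c' hc' hne => by rw [h0 c' hc' hne, mul_zero])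
      (fun h => absurd hc h), h1, mul_one]
  · obtain ⟨j, -, -⟩ := H76.GLB.exists_dn (T.mono c) (by omega)
    obtain ⟨t', hs, ho, hb⟩ := H76.GLB.exists_cuspLab hQ j.pos c
    rw [← hs]
    unfold SchP
    refine Finset.prod_congr rfl fun c' hc' => ?_
    have hc'' : canon Q M c' = c' := (Finset.mem_filter.1 hc').2
    by_cases hne : c' = c
    · rw [hne, show T.t c = t'.t c from funext fun i => by
        rw [shape_one (T.mono c) h1, shape_one (t'.mono c) hb]]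
    · have h2 : bsz (t'.t c') = 0 := by
        by_contra h3
        apply hne
        rw [← hc'', ← mem_repsZ.1 hc]
        exact (canon_eq_of_same hQ (ho c' (Nat.pos_of_ne_zero h3))).symm
      rw [H76.GLB.eq_idb (T.mono c') (h0 c' (mem_repsZ.2 hc'') hne), H76.GLB.eq_idb (t'.mono c') h2]

end

end Lab

/-- **Labels.** -/
theorem boxL : BoxL := by
  intro Q M _ p m n hp hp2 hQ1 hQ2 hQ t T ht hT Ω _ lab hR hc L hL
  classical
  choose u hu using Lab.exists_u (M := M) hp hQ1 hQ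
  have hg : ∀ c, canon Q M (pu M p * c) ∈ repsZ Q M := fun c => canon_mem_repsZ hQ _
  have hb : ∀ c, bb Q M p c = bb Q M p (canon Q M (pu M p * c)) + u c := fun c =>
    Lab.bb_eq hp hp2 hQ1 hQ2 hQ (hu c)
  have hf : ∀ δ ∈ repsZ Q M, Nat.card {i // lab i = δ} =
      ∑ c ∈ (repsZ Q M).filter (fun c => canon Q M (pu M p * c) = δ), p ^ u c * bsz (T.t c) := fun δ hδ => by
    rw [hc δ hδ, ← Lab.fib hp hQ t T ht hT hδ]
    exact Finset.sum_congr (by congr) fun c _ => by rw [hu c]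
  refine ⟨Lab.up_main (g := fun c => canon Q M (pu M p * c)) (m := fun c => bsz (T.t c)) hp hg hb hR hf L hL, ?_⟩
  obtain ⟨I, hI, ρ, rp, w, h1, h2, h3, h4⟩ :=
    Lab.part_main (g := fun c => canon Q M (pu M p * c)) (m := fun c => bsz (T.t c)) hp hg hb hR hf
  refine ⟨I, hI, ρ, rp, w, h1, h2, h3, fun h5 h6 => ?_⟩
  obtain ⟨c, hcR, hm, hpos, h0⟩ := h4 h5 h6
  obtain ⟨h7, h8⟩ := Lab.schP_one hQ T hcR hm h0
  obtain ⟨h9, h10⟩ := Lab.kill hp hp2 hQ1 hQ2 hQ (hu c) hpos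
  rw [h7] at h8 h9 h10
  exact ⟨c, hcR, h7, h9, h10, h8⟩

end Cfsg.Agent.RC.A
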