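import Cfsg.Agent.RC.A.Amb
import Cfsg.Agent.KM.Tr

/-!
# RC, type A: descent to central quotients (helper88)

* `Dn p 𝔐 π` : the image of a defect group of the block of an inflation is a defect group; `dn_cen` : central kernels;
* `boxR`.
-/

set_option autoImplicit false
set_option linter.unusedSectionVars false

namespace Cfsg.Agent.RC.A

open Cfsg Subgroup Cfsg.Agent.Blocks.Basic Cfsg.Agent.KM.Mu
open Cfsg.Agent.H644.CentralQuot (infl isPBlock_defl)
open scoped commutatorElement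

namespace Desc

variable {p : ℕ} [hp : Fact p.Prime] {𝔐 : Ideal AlgInt} {X Y K : Type} [Group X] [Group Y] [Group K] [Finite X]

/-- defect groups go to defect groups -/
def Dn (p : ℕ) (𝔐 : Ideal AlgInt) {X K : Type} [Group X] [Group K] (π : X →* K) : Prop :=
  ∀ (χ : IrrCharacter K) (E : Subgroup X), IsDefectGroup p 𝔐 (blockOf 𝔐 fun x => (χ : K → ℂ) (π x)) E →
    IsDefectGroup p 𝔐 (blockOf 𝔐 (χ : K → ℂ)) (E.map π)

theorem Dn.comp {π : X →* Y} {ρ : Y →* K} (h : Dn p 𝔐 π) (h' : Dn p 𝔐 ρ) (hρ : Function.Surjective ρ) :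
    Dn p 𝔐 (ρ.comp π) := fun χ E hE =>
  map_map ρ π (K := E) ▸ h' χ _ (h ⟨_, Characters.Core.isIrr_comp ρ hρ χ.2⟩ E hE)

theorem dn_equiv (e : X ≃* K) : Dn p 𝔐 e.toMonoidHom := fun χ E hE => by
  have h := H649.isDefectGroup_blkMap (e := e) hE
  rw [H649.blkMap_blockOf] at h
  simpa using h

theorem dn_reg (hM : IsPModular p 𝔐) (U : Subgroup X) [U.Normal] (hU : ¬ p ∣ Nat.card U) :
    Dn p 𝔐 (QuotientGroup.mk' U) := fun θ E hE => by
  have := hM.2.1.isPrime
  obtain ⟨c, hc, h1, -, h2⟩ := TO.exists_defl hM (isPBlock_blockOf (infl U θ)) U hU (f := (infl U θ : X → ℂ))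
    ⟨_, mem_blockOf_self _, rfl⟩ fun n hn => congrArg (θ : X ⧸ U → ℂ) (((QuotientGroup.eq_one_iff n).2 hn).trans rfl)
  exact isPBlock_eq_blockOf hc
    ((TO.rd_mem_Fn.symm.trans ((h1 θ).trans (TO.rd_mem_Fn (χ := infl U θ)))).2 (mem_blockOf_self _)) ▸ h2 E hE

theorem dn_p (hM : IsPModular p 𝔐) {U : Subgroup X} [U.Normal] (hU : U ≤ center X) (h : IsPGroup p U) :
    Dn p 𝔐 (QuotientGroup.mk' U) := fun θ E hE => by
  have := hM.2.1.isPrime
  have := Fintype.ofFinite X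
  have hB := isPBlock_blockOf (M := 𝔐) (infl U θ)
  exact isPBlock_eq_blockOf (isPBlock_defl hM hU h hB) (mem_blockOf_self (infl U θ)) ▸
    (H658.isDefectGroup_defl hM hU h hB hE).2

/-- **central kernels** -/
theorem dn_cen (hM : IsPModular p 𝔐) {π : X →* K} (hπ : Function.Surjective π) (hk : π.ker ≤ center X) :
    Dn p 𝔐 π ∧ ∀ (ϑ : IrrCharacter X) (E : Subgroup X), IsDefectGroup p 𝔐 (blockOf 𝔐 (ϑ : X → ℂ)) E →
      (Nat.card π.ker).factorization p ≤ (Nat.card (E ⊓ π.ker : Subgroup X)).factorization p := by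
  obtain ⟨P⟩ : Nonempty (Sylow p π.ker) := inferInstance
  have h1 := map_subtype_le (P : Subgroup π.ker)
  have h2 : IsPGroup p ((P : Subgroup π.ker).map π.ker.subtype) := P.2.map _
  have h3 := card_map_of_injective (K := (P : Subgroup π.ker)) π.ker.subtype_injective
  have h4 := (P : Subgroup π.ker).card_mul_index
  have h5 := P.not_dvd_index
  rw [← h3] at h4
  generalize (P : Subgroup π.ker).map π.ker.subtype = U at h1 h2 h4
  have : U.Normal := ⟨fun n hn g => by rwa [mem_center_iff.1 (hk (h1 hn)) g, mul_inv_cancel_right]⟩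
  refine ⟨?_, fun ϑ E hE => ?_⟩
  · let ρ : X ⧸ U →* K := QuotientGroup.lift U π h1
    have hρ : Function.Surjective ρ := QuotientGroup.lift_surjective_of_surjective U π hπ h1
    have h6 := card_ker_mul (QuotientGroup.mk' U) π.ker
    rw [QuotientGroup.ker_mk', inf_eq_right.2 h1, ← h4, Nat.mul_right_inj Nat.card_pos.ne', ← QuotientGroup.ker_lift U π h1] at h6
    let e := QuotientGroup.quotientKerEquivOfSurjective ρ hρ
    have h7 : Dn p 𝔐 (e.toMonoidHom.comp (QuotientGroup.mk' ρ.ker)) :=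
      (dn_reg hM ρ.ker (by rw [h6]; exact h5)).comp (dn_equiv e) e.surjective
    have h8 : e.toMonoidHom.comp (QuotientGroup.mk' ρ.ker) = ρ := MonoidHom.ext fun _ => rfl
    have h9 : ρ.comp (QuotientGroup.mk' U) = π := MonoidHom.ext fun _ => rfl
    rw [h8] at h7
    rw [← h9]
    exact (dn_p hM (h1.trans hk) h2).comp h7 hρ
  · have h6 := fac_mul (p := p) h4 Nat.card_pos.ne'
    rw [Nat.factorization_eq_zero_of_not_dvd h5, add_zero] at h6
    exact h6 ▸ fac_mono (le_inf (H658.isDefectGroup_defl hM (h1.trans hk) h2 (isPBlock_blockOf ϑ) hE).1 h1)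

end Desc

open Desc

/-- **Descent.** -/
theorem boxR : BoxR := by
  intro p _ 𝔐 Γ _ _ Y _ Z hU Y' K S _ _ _ _ ι ψ σ hι hY hZ hψ hk B D χ H
  subst hY
  have hM := H.hM
  have := hM.2.1.isPrime
  let e := MonoidHom.ofInjective hι
  obtain ⟨π, hπ, h1, h2⟩ : ∃ π : ι.range →* K, Function.Surjective π ∧ π.ker ≤ center _ ∧ ∀ u ∈ π.ker, u.1 ∈ Z :=
    ⟨ψ.comp e.symm.toMonoidHom, hψ.comp e.symm.surjective, fun x hx => mem_center_iff.2 fun g => e.symm.injective (by
      rw [map_mul, map_mul]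
      exact mem_center_iff.1 (hk hx) _), fun u hu => by
        obtain ⟨u, rfl⟩ := e.surjective u
        exact hZ u (hk (by simpa using hu))⟩
  obtain ⟨h3, h4⟩ := dn_cen hM hπ h1
  let ϑ : IrrCharacter ι.range := ⟨_, Characters.Core.isIrr_comp π hπ χ.2⟩
  have hb := isPBlock_blockOf (M := 𝔐) ϑ
  obtain ⟨E, hE, rfl⟩ : ∃ E, IsDefectGroup p 𝔐 (blockOf 𝔐 (ϑ : ι.range → ℂ)) E ∧ E.map π = D := by
    obtain ⟨E, hE⟩ := H644.exists_isDefectGroup hM hb
    obtain ⟨x, hx⟩ := TID.Red.conj_defect hM H.hB (isPBlock_eq_blockOf H.hB H.mem ▸ h3 χ E hE) H.hD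
    obtain ⟨y, rfl⟩ := hπ x
    refine ⟨_, isDefectGroup_conj hE y, ?_⟩
    rw [← hx, map_map, map_map]
    exact congrArg E.map (MonoidHom.ext fun z => by simp)
  obtain ⟨B', P, hB', hP, h5, h6⟩ := KM.up_norm hM ι.range hb hE
  obtain ⟨χ', h7, h8⟩ := h6 ϑ (mem_blockOf_self ϑ)
  have hc : ∀ A : Subgroup ι.range, Nat.card (A.map ι.range.subtype) = Nat.card A := fun A =>
    card_map_of_injective (subtype_injective _)
  have h9 := hU B' P χ' ϑ ((E ⊓ π.ker).map (Subgroup.subtype _))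
    ((E ⊓ ((center (E.map π)).map (Subgroup.subtype _)).comap π).map (Subgroup.subtype _)) hB' hP h7 h8
    (by rintro _ ⟨u, hu, rfl⟩; exact h2 u hu.2) (map_subtype_le _)
    (((H592.Defect.isPGroup_of_isDefectGroup hE).to_le inf_le_left).map _)
    (by
      rintro u ⟨v, hv, h⟩
      obtain rfl : v = u := Subtype.ext h
      exact congrArg (χ : K → ℂ) (hv.2.trans (map_one π).symm))
    (h5 ▸ map_mono inf_le_left)
    (by
      rw [h5]
      rintro _ ⟨w, ⟨h10, z, h11, h12⟩, rfl⟩ _ ⟨x, h13, rfl⟩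
      refine ⟨⁅w, x⁆, ⟨E.mul_mem (E.mul_mem (E.mul_mem h10 h13) (E.inv_mem h10)) (E.inv_mem h13), ?_⟩, rfl⟩
      change π ⁅w, x⁆ = 1
      rw [map_commutatorElement, ← h12, commutatorElement_eq_one_iff_mul_comm]
      exact (congrArg Subtype.val (mem_center_iff.1 h11 ⟨π x, x, h13, rfl⟩)).symm)
    (by
      have a1 := H.four_le
      have a2 := fac_mul (p := p) (card_ker_mul σ (E.map π)) Nat.card_pos.ne'
      have a3 := fac_mul (p := p) (card_ker_mul π E) Nat.card_pos.ne'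
      rw [h5, hc]
      omega)
    fun hA => H.na ⟨⟨by
      rintro ⟨_, a, ha, rfl⟩ ⟨_, b, hb, rfl⟩
      have a1 : ∀ a ∈ E, a.1 ∈ P := fun a ha => (h5.ge ⟨a, ha, rfl⟩).1
      have a3 := congrArg Subtype.val (hA.is_comm.comm ⟨_, a1 a ha⟩ ⟨_, a1 b hb⟩)
      have a2 : a * b = b * a := Subtype.ext a3
      exact Subtype.ext ((map_mul π a b).symm.trans (a2 ▸ map_mul π b a))⟩⟩
  have a1 := fac_mul (p := p) (card_ker_mul π (E ⊓ ((center (E.map π)).map (Subgroup.subtype _)).comap π)) Nat.card_pos.ne'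
  have a0 : (E ⊓ ((center (E.map π)).map (Subgroup.subtype _)).comap π).map π =
      (center (E.map π)).map (Subgroup.subtype _) := le_antisymm (map_le_iff_le_comap.2 inf_le_right) fun z hz => by
    obtain ⟨x, h10, rfl⟩ := map_subtype_le _ hz
    exact ⟨x, ⟨h10, hz⟩, rfl⟩
  rw [inf_assoc, inf_eq_right.2 (ker_le_comap π _), a0, card_map_of_injective (subtype_injective _)] at a1
  have a2 := fac_mul (p := p) (card_ker_mul π ⊤) Nat.card_pos.ne'
  rw [top_inf_eq, map_top_of_surjective π hπ, card_top, card_top] at a2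
  have a3 := h4 ϑ E hE
  have a4 : charDegree (ϑ : ι.range → ℂ) = charDegree (χ : K → ℂ) := by
    rw [charDegree, charDegree]
    exact congrArg (fun z : ℂ => ⌊z.re⌋₊) (congrArg (χ : K → ℂ) (map_one π))
  rw [hc, a4] at h9
  unfold Rob
  omega

end Cfsg.Agent.RC.A
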