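import Cfsg.Agent.RC.A.Amb
import Cfsg.Agent.RC.D2S
import Cfsg.Agent.RC.X.FU
import Cfsg.Agent.KM.Si.All
import Cfsg.Agent.KM.Mu.Lie
import Cfsg.Agent.KM.A.Main
import Cfsg.Agent.H120.GLB.Ctx
import Cfsg.Agent.H614.GU.Fld

/-!
# RC, type A: the rows of the linear and unitary groups from the boxes (helper72)

`row_psl`, `row_psu`.
-/

set_option autoImplicit false
set_option linter.unusedSectionVars false

namespace Cfsg.Agent.RC.A

open Cfsg Cfsg.Agent.KM Cfsg.Agent.KM.Mu Matrix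
open Cfsg.Agent.H577.GLB.Std Cfsg.Agent.H623.GU Cfsg.Agent.H615.GU
open Cfsg.Agent.H624.Sl (scl)

variable {l : ℕ} [hl : Fact l.Prime] {F : Type} [Field F] [Fintype F]

/-- the row from the universal cover inside a group with the inequality -/
theorem rrow_up (hR : BoxR) {Y : Type} [Group Y] [Finite Y] (hY : commutator Y = ⊤) {C : Type} [CommGroup C] [Finite C]
    (hA : HasSchurMultiplier (Y ⧸ Subgroup.center Y) C) (hd : Nat.card (Subgroup.center Y) = Nat.card C)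
    (h : ∀ 𝔐 : Ideal AlgInt, IsPModular l 𝔐 → ∃ (Γ : Type) (_ : Group Γ) (_ : Finite Γ) (N : Subgroup Γ) (_ : N.Normal)
      (Z : Set Γ) (ι : Y →* Γ), Up l 𝔐 N Z ∧ Function.Injective ι ∧ ι.range = N ∧ ∀ y ∈ Subgroup.center Y, ι y ∈ Z) :
    RRow l (Y ⧸ Subgroup.center Y) := fun K _ _ σ 𝔐 B D χ H => by
  obtain ⟨Γ, _, _, N, _, Z, ι, h1, h2, h3, h4⟩ := h 𝔐 H.hM
  have hπ := QuotientGroup.mk'_surjective (Subgroup.center Y)
  obtain ⟨ψ, h5, h6⟩ := H95.StemCover.exists_cover' (by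
      rw [commutator_def, ← MonoidHom.range_eq_top.2 hπ, MonoidHom.range_eq_map, ← Subgroup.map_commutator,
        ← commutator_def, hY]) hA (QuotientGroup.mk' _)
    (H95.StemCover.isStem hY hπ (QuotientGroup.ker_mk' _).le) (by rw [QuotientGroup.ker_mk', hd])
    H.qs.1.commutator_eq_top σ H.surj H.ker.le
  refine hR l 𝔐 Γ N Z h1 Y K _ ι ψ σ h2 h3 h4 h5 (fun y hy => ?_) B D χ H
  rw [← QuotientGroup.ker_mk' (Subgroup.center Y), MonoidHom.mem_ker, ← h6, MonoidHom.mem_ker.1 hy, map_one]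

theorem dK_eq_one {K : Type} [Field K] [Algebra F K] {n : ℕ} {g : GL (Fin n) F} :
    dK F K n g = 1 ↔ GeneralLinearGroup.det g = 1 :=
  ⟨fun h => Units.map_injective (algebraMap F K).injective (h.trans (map_one _).symm),
    fun h => (congrArg (Units.map (algebraMap F K).toMonoidHom) h).trans (map_one _)⟩

theorem scl_of_eq {n : ℕ} {g : GL (Fin (n + 1)) F} {c : F} (h : g.1 = diagonal fun _ => c) :
    ∃ c : Fˣ, g = scl (n + 1) c := by
  have h0 : c ≠ 0 := fun h0 => g.ne_zero (by rw [h, h0]; exact diagonal_zero)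
  exact ⟨Units.mk0 c h0, Units.ext h⟩

variable (hU : BoxU) (hA : BoxA) (hC : BoxC) (hR : BoxR)
include hU hA hC hR

theorem row_SL (h2 : l ≠ 2) (hF : (l : F) ≠ 0) {n : ℕ} (hg : l ∣ Fintype.card F - 1)
    (hY : commutator (SpecialLinearGroup (Fin (n + 1)) F) = ⊤)
    (hS : HasCyclicSchurMultiplier (ProjectiveSpecialLinearGroup (Fin (n + 1)) F) (Nat.gcd (n + 1) (Fintype.card F - 1))) :
    RRow l (ProjectiveSpecialLinearGroup (Fin (n + 1)) F) := by
  have : NeZero (Nat.gcd (n + 1) (Fintype.card F - 1)) := ⟨Nat.gcd_ne_zero_left n.succ_ne_zero⟩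
  refine rrow_up hR hY hS (by rw [S0280.card_center_SL n.succ_pos, BHZ.Nil.card_mult_zmod]) fun 𝔐 hM => ?_
  obtain ⟨K, _, _, θ, M, _, C⟩ := H120.GLB.Ctx.exists_ctx F (n + 1)
  have ctx : CtxQ θ (Fintype.card F : ℤ) M (n + 1) := by
    have := H614.GU.ctxQ_card C
    rwa [Nat.card_eq_fintype_card] at this
  have hQ : (l : ℤ) ∣ (Fintype.card F : ℤ) - 1 := by
    rw [← Nat.cast_pred Fintype.card_pos]
    exact Int.natCast_dvd_natCast.2 hg
  obtain ⟨A, h3, h4⟩ := (hA F K θ _ M _ l hl.out hF C ctx).1 rfl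
  refine ⟨_, _, inferInstance, (A.d (n + 1)).ker, inferInstance, A.Z (n + 1), SpecialLinearGroup.toGL,
    hU F K θ _ M _ l _ A 𝔐 hM h2 hQ (fun δ h5 h6 => (hC F K θ _ M _ l 𝔐 hM h2 hQ δ h5 h6).1 rfl A h3 h4) _ n.succ_pos le_rfl,
    SpecialLinearGroup.toGL_injective, ?_, fun y hy => ?_⟩
  · rw [KM.A.range_SL]
    ext g
    rw [MonoidHom.mem_ker, MonoidHom.mem_ker, Amb.d, h3]
    exact dK_eq_one.symm
  · obtain ⟨_, _, h⟩ := Matrix.SpecialLinearGroup.mem_center_iff.1 hy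
    rw [Amb.Z, h3]
    exact scl_of_eq h.symm

theorem row_SU (h2 : l ≠ 2) (hF : (l : F) ≠ 0) {n q : ℕ} (hq : Fintype.card F = q ^ 2) (hn : 3 ≤ n + 1) (hg : l ∣ q + 1)
    (hY : commutator (SU (n + 1) F q) = ⊤) (hS : HasCyclicSchurMultiplier (PSU (n + 1) F q) (Nat.gcd (n + 1) (q + 1))) :
    RRow l (PSU (n + 1) F q) := by
  have : NeZero (Nat.gcd (n + 1) (q + 1)) := ⟨Nat.gcd_ne_zero_left n.succ_ne_zero⟩
  refine rrow_up hR hY hS (by rw [S0279.result hq _ hn, BHZ.Nil.card_mult_zmod]) fun 𝔐 hM => ?_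
  obtain ⟨K, _, _, θ, M, _, C⟩ := H120.GLB.Ctx.exists_ctx F (n + 1)
  have ctx : CtxQ θ (-(q : ℤ)) M (n + 1) := H614.GU.ctxQ_of_ctx C (by rw [Nat.card_eq_fintype_card]; exact hq)
  have hQ : (l : ℤ) ∣ -(q : ℤ) - 1 := by
    rw [← neg_add', Int.dvd_neg, ← Nat.cast_succ]
    exact Int.natCast_dvd_natCast.2 hg
  obtain ⟨A, h3, h4⟩ := (hA F K θ _ M _ l hl.out hF C ctx).2 q hq rfl
  refine ⟨_, _, inferInstance, (A.d (n + 1)).ker, inferInstance, A.Z (n + 1),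
    (SpecialLinearGroup.toGL.comp (SU (n + 1) F q).subtype).codRestrict (GU (n + 1) F q) fun x => x.2,
    hU F K θ _ M _ l _ A 𝔐 hM h2 hQ (fun δ h5 h6 => (hC F K θ _ M _ l 𝔐 hM h2 hQ δ h5 h6).2 q hq rfl A h3 h4) _ n.succ_pos
      le_rfl, fun x y e => Subtype.ext (SpecialLinearGroup.toGL_injective (congrArg Subtype.val e)), ?_, fun y hy => ?_⟩
  · ext g
    rw [MonoidHom.mem_ker, Amb.d, h3]
    exact ⟨fun ⟨y, hy⟩ => dK_eq_one.2 (hy ▸ Units.ext y.1.2),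
      fun h => ⟨⟨⟨g.1, congrArg Units.val (dK_eq_one.1 h)⟩, g.2⟩, Subtype.ext (Units.ext rfl)⟩⟩
  · obtain ⟨c, h5, h6, rfl⟩ := (LieClassical.SUBasic.mem_center_SU_iff hq hn y).1 hy
    rw [Amb.Z, h3]
    exact scl_of_eq (c := c) rfl

/-- **the row of the linear groups** -/
theorem row_psl : RRowFor CPsl := by
  rintro l hl h2 S _ _ _ - ⟨F, _, _, n, hF, hn, h4, ⟨e⟩⟩
  refine RRow.of_equiv e ?_
  by_cases hg : ¬ l ∣ Nat.gcd n (Fintype.card F - 1)
  · exact D2.psl_good (D2.si_of Si.si) h2 hF hn h4 hg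
  have h5 := (not_not.1 hg).trans (Nat.gcd_dvd_right _ _)
  have h1 := S0243.result (F := F) rfl n hn
  by_cases hexc : (n, Fintype.card F) ∈ ({(2, 4), (2, 9), (3, 2), (3, 4), (4, 2)} : Set (ℕ × ℕ))
  · simp only [Set.mem_insert_iff, Set.mem_singleton_iff, Prod.mk.injEq] at hexc
    refine rrow_of_card ?_
    rcases hexc with ⟨rfl, h⟩ | ⟨rfl, h⟩ | ⟨rfl, h⟩ | ⟨rfl, h⟩ | ⟨rfl, h⟩ <;> rw [h] at h1 <;>
      norm_num [Fin.prod_univ_succ] at h1
    · exact D2.small h2 2 1 5 (by omega) (by norm_num) (by norm_num)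
    · exact D2.small h2 3 2 5 (by omega) (by norm_num) (by norm_num)
    · exact D2.small h2 3 1 7 (by omega) (by norm_num) (by norm_num)
    · exact D2.small h2 6 2 35 (by omega) (by norm_num) (by norm_num)
    · exact D2.small h2 6 2 35 (by omega) (by norm_num) (by norm_num)
  obtain ⟨n, rfl⟩ : ∃ m, n = m + 1 := ⟨n - 1, by omega⟩
  refine row_SL hU hA hC hR h2 hF h5 ?_ (S2086.result rfl _ hn h4 hexc)
  rcases hn.eq_or_lt with h | h
  · obtain rfl : n = 1 := by omega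
    exact H259.NatMod.commutator_eq_top (h4 rfl)
  · exact S0248.result _ h

/-- **the row of the unitary groups** -/
theorem row_psu : RRowFor CPsu := by
  rintro l hl h2 S _ _ _ hS ⟨F, _, _, n, q, hF, hq, hn, h4, ⟨e⟩⟩
  by_cases hg : ¬ l ∣ Nat.gcd n (q + 1)
  · exact D2.psu_good (D2.si_of Si.si) Lie.rowLie h2 hS hF hq hn h4 hg e
  rw [not_not] at hg
  refine RRow.of_equiv e ?_
  by_cases hexc : (n, q) ∈ ({(4, 2), (4, 3), (6, 2)} : Set (ℕ × ℕ))
  · simp only [Set.mem_insert_iff, Set.mem_singleton_iff, Prod.mk.injEq] at hexc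
    rcases hexc with ⟨rfl, rfl⟩ | ⟨rfl, rfl⟩ | ⟨rfl, rfl⟩
    · exact absurd hg hl.out.not_dvd_one
    · exact absurd ((Nat.prime_dvd_prime_iff_eq hl.out Nat.prime_two).1
        (hl.out.dvd_of_dvd_pow (n := 2) hg)) h2
    · obtain rfl := (Nat.prime_dvd_prime_iff_eq hl.out Nat.prime_three).1 hg
      exact X.u62 F hq
  obtain ⟨n, rfl⟩ : ∃ m, n = m + 1 := ⟨n - 1, by omega⟩
  exact row_SU hU hA hC hR h2 hF hq hn (hg.trans (Nat.gcd_dvd_right _ _))
    (LieClassical.HermPerfect.commutator_SU_eq_top hq hn h4) (S2089.result _ q hq hn h4 hexc)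

end Cfsg.Agent.RC.A
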