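import Cfsg.Agent.RC.A.Amb
import Cfsg.Agent.KM.A.Red
import Cfsg.Agent.H166.GUC.ValT4
import Cfsg.Agent.H623.GU.Base
import Cfsg.Agent.H421.GU.Twist
import Cfsg.Agent.H697.GW.DetPreg
import Cfsg.Agent.H521.GU.Compl
import Cfsg.Agent.H531.GU.Neck
import Cfsg.Agent.H266.KGV.Dich
import Cfsg.Agent.H157.GLB.DA
import Cfsg.Agent.S0887

/-!
# RC, type A: the characters of the Coxeter torus (helper95)

`boxX : BoxX`.
-/

set_option autoImplicit false
set_option linter.unusedSectionVars false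

namespace Cfsg.Agent.RC.A

open Cfsg Cfsg.Agent.Characters
open Cfsg.Agent.H577.GLB.Std Cfsg.Agent.H614.GLn.RSt Cfsg.Agent.H615.GU Cfsg.Agent.H623.GU Cfsg.Agent.H112.GLB
open Cfsg.Agent.H624.Sl Cfsg.Agent.H624.SlU Cfsg.Agent.H166.GUC
open Cfsg.Agent.TID.Red (Ov ov_subtype_iff)

namespace Cox

/-- a character which vanishes outside a normal subgroup of index `p` -/
theorem mul_dvd {G : Type} [Group G] [Finite G] {p : ℕ} (hp : p.Prime) (N L : Subgroup G) [N.Normal] [hL : L.Normal]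
    (hNL : N ≤ L) (hi : L.index = p) (χ : IrrCharacter G) (h0 : ∀ g, g ∉ L → (χ : G → ℂ) g = 0) (ϑ : IrrCharacter N)
    (h : Ov N.subtype (χ : G → ℂ) (ϑ : N → ℂ)) : p * charDegree (ϑ : N → ℂ) ∣ charDegree (χ : G → ℂ) := by
  classical
  have : Fact p.Prime := ⟨hp⟩
  have := Fintype.ofFinite G
  obtain ⟨φ, hφ, h1, h2⟩ := H266.KGV.exists_between L N hNL (Core.isIrr_isCharacter χ.2) ((ov_subtype_iff N _ _).1 h)
  have hc : IsCyclic (G ⧸ L) := isCyclic_of_prime_card (p := p) hi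
  have h3 := KM.A.deg_cyc L hc (θ := ⟨φ, hφ⟩) ((ov_subtype_iff L _ _).2 h1) (H666.Clif.stab L φ) fun g => funext_iff
  have h4 := Subgroup.index_dvd_of_le (H666.Clif.le_stab L (Core.isIrr_isClassFunction hφ))
  rw [hi] at h4
  rcases (Nat.dvd_prime hp).1 h4 with h5 | h5
  · have h6 := TO.Cov.res_of_inv L hc (χ := χ) (ε := ⟨φ, hφ⟩) ((H666.Clif.ov_iff _ _ _).2 h1)
      fun g => funext_iff.1 ((Subgroup.index_eq_one.1 h5).ge (Subgroup.mem_top g))
    have h7 := Core.classInner_irr_self χ.2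
    have h8 := Core.classInner_irr_self hφ
    have h9 : ∑ g : G, (χ : G → ℂ) g * (starRingEnd ℂ) ((χ : G → ℂ) g) = ∑ g : L, φ g * (starRingEnd ℂ) (φ g) := by
      rw [← Finset.sum_subset (Finset.filter_subset (· ∈ L) _) fun g _ hg => by
        rw [h0 g fun e => hg (Finset.mem_filter.2 ⟨Finset.mem_univ _, e⟩), zero_mul],
        Finset.sum_subtype (p := (· ∈ L)) _ fun g => by simp]
      exact Finset.sum_congr rfl fun g _ => by rw [h6 g]
    rw [classInner, inv_mul_eq_one₀ (Nat.cast_ne_zero.2 Nat.card_pos.ne')] at h7 h8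
    have h10 : Nat.card G = Nat.card L := Nat.cast_injective (R := ℂ) (h7.trans (h9.trans h8.symm))
    have h11 := L.card_mul_index
    rw [h10, hi] at h11
    exact absurd (Nat.eq_of_mul_eq_mul_left Nat.card_pos (h11.trans (mul_one _).symm)) hp.ne_one
  · rw [h3, h5]
    let e := Subgroup.subgroupOfEquivOfLe hNL
    rw [← Clifford.classInner_comp_mulEquiv e] at h2
    exact Nat.mul_dvd_mul_left p (S0887.result (N.subgroupOf L) φ hφ _ (Core.isIrr_comp e.toMonoidHom e.surjective ϑ.2) h2 _ _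
      (Blocks.Basic.irr_one_eq_charDegree hφ) ((congrArg _ (map_one e.toMonoidHom)).trans (Blocks.Basic.irr_one_eq_charDegree ϑ.2))).1

theorem lte {p : ℕ} (hp : Odd p) {x : ℤ} (h : (p : ℤ) ∣ x - 1) : ∃ u, x ^ p - 1 = (x - 1) * (p * (1 + p * u)) := by
  obtain ⟨b, hb⟩ := h
  obtain ⟨u, hu⟩ := odd_sq_dvd_geom_sum₂_sub (1 : ℤ) b hp
  simp only [one_pow, mul_one, ← hb, add_sub_cancel] at hu
  exact ⟨u, by rw [← mul_geom_sum, sub_eq_iff_eq_add.1 hu]; ring⟩

variable {K : Type} [Field K] [Finite K] {θ : K →*₀ ℂ} {Q : ℤ} {M : ℕ} {w : Kˣ}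

theorem pow_fix (hw : w ^ Q = w) (i : ℕ) : w ^ Q ^ i = w := by
  induction i with
  | zero => rw [pow_zero, zpow_one]
  | succ i ih => rw [pow_succ, zpow_mul, ih, hw]

theorem dOrb_fix (hM : Nat.card Kˣ = M) (hQ : IsUnit (Q : ZMod M)) (hw : w ^ Q = w) :
    dOrb K Q (Quotient.mk (orbSetoid K Q) w) = 1 := by
  rw [H421.GU.dOrb_mk hM hQ, Function.minimalPeriod_eq_one_iff_isFixedPt]
  exact hw

/-- the cuspidal function at the types with one rational eigenvalue -/
theorem Pop_vac (hM : Nat.card Kˣ = M) (hQ : IsUnit (Q : ZMod M)) (hw : w ^ Q = w) {k : ℕ} (hk : 0 < k) (c : ZMod M)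
    {l : Col} (hl : l.size = k) : Pop θ Q M k c H615.GU.vac (Finsupp.single (Quotient.mk (orbSetoid K Q) w) l) =
      θ (w : K) ^ expoZ Q M k c * wt (Q : ℂ) (l 0) := by
  classical
  have hl0 : l ≠ 0 := by
    rintro rfl
    rw [Col.size_zero] at hl
    omega
  have hd := dOrb_fix hM hQ hw
  rw [H531.GU.Pop_eq, LinearMap.sum_apply, Finset.sum_apply, Finset.sum_eq_single (Quotient.mk (orbSetoid K Q) w)]
  · rw [if_pos ⟨hk, hd ▸ one_dvd k⟩, thO, H421.GU.finsum_orb hM hQ (fun x : Kˣ => θ (x : K) ^ expoZ Q M k c) w, hd,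
      Finset.sum_range_one, pow_zero, zpow_one, pow_one, Nat.div_one, LinearMap.smul_apply, Pi.smul_apply, smul_eq_mul]
    congr 1
    change H531.GU.lft0 _ _ _ _ = _
    rw [H531.GU.lft0_apply, Finsupp.single_eq_same]
    have h1 : (fun c : Col => (H615.GU.vac : Ty (Orb K Q) → ℂ)
        ((Finsupp.single (Quotient.mk (orbSetoid K Q) w) l).update (Quotient.mk (orbSetoid K Q) w) c)) = vacl := by
      funext c
      have h2 : (Finsupp.single (Quotient.mk (orbSetoid K Q) w) l).update (Quotient.mk (orbSetoid K Q) w) c =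
          Finsupp.single (Quotient.mk (orbSetoid K Q) w) c := by
        ext1 j
        rw [Finsupp.coe_update]
        by_cases hj : j = Quotient.mk (orbSetoid K Q) w
        · rw [hj, Function.update_self, Finsupp.single_eq_same]
        · rw [Function.update_of_ne hj, Finsupp.single_eq_of_ne hj, Finsupp.single_eq_of_ne hj]
      simp only [h2, H615.GU.vac, vacl, Finsupp.single_eq_zero]
    rw [h1]
    refine (H521.GU.Pl_vacl (Q : ℂ) hk l).trans ?_
    rw [if_pos hl, wt, Finset.prod_Ico_eq_prod_range]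
    exact Finset.prod_congr rfl fun i _ => by rw [add_comm]
  · intro o _ ho
    split_ifs
    · rw [LinearMap.smul_apply, Pi.smul_apply]
      change _ • H531.GU.lft0 _ _ _ _ = _
      rw [H531.GU.lft0_apply]
      have h1 : (fun c : Col => (H615.GU.vac : Ty (Orb K Q) → ℂ)
          ((Finsupp.single (Quotient.mk (orbSetoid K Q) w) l).update o c)) = 0 := by
        funext c
        rw [H615.GU.vac, Pi.zero_apply, if_neg]
        intro h2
        have h3 := DFunLike.congr_fun h2 (Quotient.mk (orbSetoid K Q) w)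
        rw [Finsupp.coe_update, Function.update_of_ne (Ne.symm ho), Finsupp.single_eq_same] at h3
        exact hl0 h3
      rw [h1, map_zero, Pi.zero_apply, smul_zero]
    · rfl
  · intro h
    exact absurd (Finset.mem_univ _) h

end Cox

open Cox in
/-- **[X]** -/
theorem boxX : BoxX := by
  intro F K _ _ _ θ Q M _ N p G _ _ A hp hp2 hQ n hn c _ hper hpn hpa χ s hχ
  have := A.ctx.finK
  have hM := A.ctx.card
  have hU := A.ctx.unit
  have hM0 : (M : ℤ) ≠ 0 := Nat.cast_ne_zero.2 (NeZero.ne M)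
  have hs0 : ((s : ℤ) : ℂ) ≠ 0 := by exact_mod_cast s.ne_zero
  have hχ1 := mul_ne_zero hs0 (Core.isIrr_apply_one_ne_zero χ.2)
  have hv : ∀ g, evR θ Q M (rv Q M n c) ((A.t.T n hn).typ g) = ((s : ℤ) : ℂ) * (χ : G n → ℂ) g := congrFun hχ
  obtain ⟨hn0, hT⟩ : 0 < n ∧ TorZ Q M n c := by_contra fun e => hχ1 (by rw [← hv, rv_eq_zero e, map_zero, Pi.zero_apply])
  obtain ⟨m, rfl⟩ := hpn
  rw [Nat.mul_div_cancel_left m hp.pos] at hpa
  obtain ⟨a, ha⟩ : ∃ a, a = ((Q : ZMod M) ^ m - 1) * c := ⟨_, rfl⟩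
  rw [← ha] at hpa
  have ha0 : a ≠ 0 := fun e => by
    have h1 := Nat.le_of_dvd (Nat.pos_of_mul_pos_left hn0) (hper ▸ (H157.GLB.torZ_iff hU m c).1 (ha.symm.trans e))
    have h2 := hp.two_le
    nlinarith
  have hθ : ∀ {x : Kˣ} {e : ℤ}, θ (x : K) ^ e = 1 → x ^ e = 1 := fun {x e} h => Units.ext (A.ctx.inj (by
    rw [Units.val_zpow_eq_zpow_val, map_zpow₀, h, Units.val_one, map_one]))
  refine ⟨fun z ⟨c₀, hz⟩ ho e => ?_, fun ϑ hϑ => ?_⟩
  · obtain ⟨w, hw⟩ : ∃ w : Kˣ, w = Units.map (algebraMap F K).toMonoidHom c₀ := ⟨_, rfl⟩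
    have := A.cF.finF
    have h1 : orderOf w = p := by
      rw [hw, orderOf_injective _ (Units.map_injective (algebraMap F K).injective), ← orderOf_scl hn0, ← hz,
        orderOf_injective _ (A.inj _), ho]
    have h2 : w ^ Q = w := by
      rw [← sub_add_cancel Q 1, zpow_add_one, orderOf_dvd_iff_zpow_eq_one.1 (h1 ▸ hQ), one_mul]
    have hu : Uni (1 : GL (Fin (p * m)) F) := by rw [Uni, Units.val_one, sub_self, zero_pow hn0.ne']
    obtain ⟨h3, h4⟩ := typ_uni hM hU (A.t.T _ hn) (g := 1) hu fun y => by rw [A.typ, map_one]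
    have h5 : (A.t.T _ hn).typ z = Finsupp.single (Quotient.mk (orbSetoid K Q) w)
        (mcol ((1 : GL (Fin (p * m)) F) : Matrix (Fin (p * m)) (Fin (p * m)) F) (1 : K)) := by
      ext1 o
      induction o using Quotient.inductionOn with
      | h y =>
        rw [A.typ, hz, ← mul_one (scl _ c₀), mcol_scl, ← hw]
        by_cases hy : y = w
        · rw [hy, Finsupp.single_eq_same, inv_mul_cancel, Units.val_one (α := K)]
        · rw [mcol_uni hu fun h => hy (inv_mul_eq_one.1 (Units.ext h)).symm, Finsupp.single_eq_of_ne]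
          exact fun h => ((H421.GU.mk_eq_iff hM hU).1 h).elim fun i hi => hy (hi.trans (pow_fix h2 i))
    have h6 := hv z
    have h7 := hv 1
    rw [h3, evR_rv_uni hM hU hn0 hT h4] at h7
    rw [h5, ← mul_one (rv Q M _ c), H531.GU.evR_rv_mul θ H521.GU.i2s hM hU hn0 hT, evR_one, Pop_vac hM hU h2 hn0 c h4, h7, e,
      mul_left_eq_self₀, or_iff_left hχ1] at h6
    obtain ⟨d, hd⟩ := orderOf_dvd_iff_zpow_eq_one.2 (hθ h6)
    obtain ⟨u, hu⟩ := lte (hp.odd_of_ne_two hp2) (x := Q ^ m) (hQ.trans (by simpa using sub_dvd_pow_sub_pow Q 1 m))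
    have h8 := H531.GU.expoZ_mul hT
    rw [hd, h1, mul_comm p m, pow_mul, hu] at h8
    have h9 : d * M = c.val * (Q ^ m - 1) * (1 + p * u) :=
      mul_left_cancel₀ (Nat.cast_ne_zero.2 hp.ne_zero) (by linear_combination h8)
    have h10 := congrArg (Int.cast : ℤ → ZMod M) h9
    push_cast at h10
    rw [ZMod.natCast_self, mul_zero, ZMod.natCast_zmod_val, mul_comm c, ← ha] at h10
    exact ha0 (by linear_combination -h10 - u * hpa)
  · have h1 : TorZ Q M 1 a := by
      obtain ⟨b, hb⟩ := hQ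
      have h2 := congrArg (Int.cast : ℤ → ZMod M) hb
      push_cast at h2
      rw [TorZ, pow_one, h2]
      linear_combination b * hpa
    have h2 := H531.GU.expoZ_mul h1
    rw [pow_one] at h2
    let lam : G (p * m) →* Kˣ := (zpowGroupHom (expoZ Q M 1 a)).comp (A.d _)
    have h3 : ∀ g, lam g ^ p = 1 := fun g => by
      obtain ⟨k, hk⟩ := (ZMod.intCast_zmod_eq_zero_iff_dvd (p * a.val) M).1 (by push_cast; rwa [ZMod.natCast_zmod_val])
      have h4 : expoZ Q M 1 a * p = (Q - 1) * k := mul_right_cancel₀ hM0 (by linear_combination p * h2 + (Q - 1) * hk)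
      change (A.d _ g ^ expoZ Q M 1 a) ^ p = 1
      rw [← zpow_natCast, ← zpow_mul, h4, zpow_mul]
      exact (congrArg (· ^ k) (A.drng _ g)).trans (one_zpow k)
    have h4 : lam.range ≠ ⊥ := fun e => by
      have hQ1 : Q - 1 ≠ 0 := fun e => by
        have h5 := A.ctx.two
        rw [sub_eq_zero.1 e] at h5
        exact absurd h5 (by decide)
      have h5 := A.ctx.dvd 1 one_pos (hn0.trans_le hn)
      rw [pow_one, ← Int.natAbs_dvd_natAbs, Int.natAbs_natCast, ← hM] at h5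
      obtain ⟨y₀, h0⟩ := IsCyclic.exists_ofOrder_eq_natCard (α := Kˣ)
      obtain ⟨y, hy⟩ : ∃ y : Kˣ, orderOf y = (Q - 1).natAbs := ⟨_, orderOf_pow_orderOf_div (orderOf_pos y₀).ne' (h0 ▸ h5)⟩
      obtain ⟨g, hg⟩ := A.dsur _ hn0 y (orderOf_dvd_iff_zpow_eq_one.1 (hy ▸ Int.natAbs_dvd.2 dvd_rfl))
      have h6 : y ^ expoZ Q M 1 a = 1 := hg ▸ Subgroup.mem_bot.1 (e.le ⟨g, rfl⟩)
      obtain ⟨k, hk⟩ := Int.natAbs_dvd.1 (hy ▸ orderOf_dvd_iff_zpow_eq_one.2 h6)
      have h7 : (a.val : ℤ) = M * k := mul_right_cancel₀ hQ1 (by rw [← h2, hk]; ring)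
      exact ha0 (by simpa using (ZMod.intCast_zmod_eq_zero_iff_dvd a.val M).2 ⟨k, h7⟩)
    have h5 : lam.ker.index = p := by
      rw [Subgroup.index_ker]
      refine ((Nat.dvd_prime hp).1 ?_).resolve_left fun e => h4 (Subgroup.card_eq_one.1 e)
      rw [← IsCyclic.exponent_eq_card]
      exact Monoid.exponent_dvd_of_forall_pow_eq_one fun ⟨_, g, e⟩ => Subtype.ext (e ▸ h3 g)
    refine mul_dvd hp _ lam.ker (fun g hg => ?_) h5 χ (fun g hg => by_contra fun e => hg (hθ ?_)) ϑ hϑ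
    · change A.d _ g ^ expoZ Q M 1 a = 1
      rw [MonoidHom.mem_ker.1 hg, one_zpow]
    · refine cusp_fix (R := A.t.R _ hn) (l := fun g => θ (A.d _ g : K) ^ expoZ Q M 1 a) hn0 h1 hT ⟨m, by rw [ha]; ring⟩ hχ
        (fun x hx => funext fun g => ?_) g e
      rw [Pi.mul_apply, Tow.R_om, Tow.R_om,
        H421.GU.evR_twist hM hU (fun v x => H531.GU.evR_X_mul θ _ M H521.GU.i2s v x) h1 hx.1,
        H697.GW.linT_eq (fun h h1 h2 => A.cF.spl h h1 (h2.trans hn)) θ M a (A.typ _ hn g)]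
      rfl

end Cfsg.Agent.RC.A
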