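import Cfsg.Agent.RC.A.Defs
import Cfsg.Agent.S0908
import Cfsg.Agent.S0917
import Cfsg.Agent.S0919
import Cfsg.Agent.S0934
import Cfsg.Agent.S4438
import Cfsg.Agent.H646.PIndex
import Cfsg.Agent.H646.SubT
import Cfsg.Agent.H662.IndLocal

/-!
# RC, type A: the frame of a defect group (helper17)

`boxF : BoxF`.
-/

set_option autoImplicit false
set_option linter.style.haveILetI false
set_option linter.unusedSectionVars false

namespace Cfsg.Agent.RC.A

open Cfsg Equiv Cfsg.Agent.Blocks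

namespace Fong

variable {p a : ℕ} {C Γ Ω Δ : Type} [CommGroup C] [Group Γ] {S : Sh p a C Ω Δ} {α : S.A →* Γ}

/-- the permuted element of the base group -/
def mv {σ : Perm Ω} (hσ : σ ∈ S.L) (w : S.A) : S.A :=
  ⟨fun i => w.1 (σ⁻¹ i), S.mem_A.2 fun i => by
    rw [← S.mem_L.1 (S.L.inv_mem hσ) i]
    exact S.mem_A.1 w.2 _⟩

theorem mv_apply {σ : Perm Ω} (hσ : σ ∈ S.L) (w : S.A) (i : Ω) : (mv hσ w).1 (σ i) = w.1 i :=
  congrArg w.1 (σ.symm_apply_apply i)

theorem act_mul {g h : Γ} {σ τ : Perm Ω} (hτ : τ ∈ S.L) (h1 : Act α g σ) (h2 : Act α h τ) :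
    Act α (g * h) (σ * τ) := by
  intro w w' hw
  rw [← h1 (mv hτ w) w' fun j => by
    obtain ⟨i, rfl⟩ := τ.surjective j
    exact (hw i).trans (mv_apply hτ w i).symm, ← h2 w _ (mv_apply hτ w)]
  group

theorem act_one {g : Γ} : Act α g 1 ↔ g ∈ Subgroup.centralizer (α.range : Set Γ) := by
  constructor
  · rintro h _ ⟨w, rfl⟩
    exact (mul_inv_eq_iff_eq_mul.1 (h w w fun _ => rfl)).symm
  · intro h w w' hw
    rw [show w' = w from Subtype.ext (funext hw), ← h _ ⟨w, rfl⟩, mul_inv_cancel_right]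

theorem eq_one [Fact p.Prime] [Finite C] (hα : Function.Injective α) {g : Γ} {σ : Perm Ω} (hσ : σ ∈ S.L)
    (h : Act α g σ) (hg : g ∈ Subgroup.centralizer (α.range : Set Γ)) : σ = 1 := by
  classical
  ext i
  have hb : S.b (S.lab i) ≠ 0 := by
    have h1 := S.fac i
    have h2 := S.pos
    omega
  obtain ⟨c, hc⟩ := exists_prime_orderOf_dvd_card' (G := C) p ((dvd_pow_self p hb).trans (S.dvd i))
  have hw : Pi.mulSingle i c ∈ S.A := S.mem_A.2 fun j => by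
    by_cases hj : j = i
    · subst hj
      rw [Pi.mulSingle_eq_same, ← orderOf_dvd_iff_pow_eq_one, hc]
      exact dvd_pow_self p hb
    · rw [Pi.mulSingle_eq_of_ne hj, one_pow]
  have h1 := h ⟨_, hw⟩ _ (mv_apply hσ _)
  rw [← hg _ ⟨_, rfl⟩, mul_inv_cancel_right] at h1
  have h2 := mv_apply hσ ⟨_, hw⟩ i
  rw [← hα h1] at h2
  by_contra h3
  change (Pi.mulSingle i c : Ω → C) (σ i) = (Pi.mulSingle i c : Ω → C) i at h2
  rw [Pi.mulSingle_eq_same, Pi.mulSingle_eq_of_ne (show σ i ≠ i from h3)] at h2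
  rw [← h2, orderOf_one] at hc
  exact (Fact.out : p.Prime).ne_one hc.symm

theorem stab_mul {H : Subgroup Γ} {b : Set (IrrCharacter H)} {g h : Γ} (h1 : StabilizesBlock H b g)
    (h2 : StabilizesBlock H b h) : StabilizesBlock H b (g * h) := by
  refine ⟨mul_mem h1.1 h2.1, fun χ hχ => ?_⟩
  obtain ⟨χ', hχ', h3⟩ := h2.2 χ hχ
  obtain ⟨χ'', hχ'', h4⟩ := h1.2 χ' hχ'
  refine ⟨χ'', hχ'', fun k k' hk => ?_⟩
  rw [← h3 k ⟨h * k * h⁻¹, (Subgroup.mem_normalizer_iff.1 h2.1 k).1 k.2⟩ rfl]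
  refine h4 _ _ ?_
  rw [hk]
  change _ = g * (h * k * h⁻¹) * g⁻¹
  group

theorem stab_mem {H : Subgroup Γ} (b : Set (IrrCharacter H)) {g : Γ} (hg : g ∈ H) : StabilizesBlock H b g :=
  ⟨Subgroup.le_normalizer hg, fun χ hχ => ⟨χ, hχ, fun k k' hk => by
    rw [show k' = ⟨g, hg⟩ * k * (⟨g, hg⟩ : H)⁻¹ from Subtype.ext hk]
    exact Basic.irr_isClassFunction χ.2 _ _⟩⟩

/-- a submonoid of a finite group is a subgroup -/
def toSub {X : Type} [Group X] [Finite X] (N : Submonoid X) : Subgroup X :=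
  { N with
    inv_mem' := fun {x} hx => by
      have h1 : x ^ (orderOf x - 1) * x = 1 := by
        rw [← pow_succ, Nat.sub_add_cancel (orderOf_pos x), pow_orderOf_eq_one]
      rw [← eq_inv_of_mul_eq_one_left h1]
      exact N.pow_mem hx _ }

/-- the pairs -/
def prs (α : S.A →* Γ) {H : Subgroup Γ} (b : Set (IrrCharacter H)) {T : Subgroup (Perm Ω)} (hT : T ≤ S.L) :
    Submonoid (Γ × Perm Ω) where
  carrier := {x | x.2 ∈ T ∧ Act α x.1 x.2 ∧ StabilizesBlock H b x.1}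
  mul_mem' := fun h h' => ⟨mul_mem h.1 h'.1, act_mul (hT h'.1) h.2.1 h'.2.1, stab_mul h.2.2 h'.2.2⟩
  one_mem' := ⟨one_mem _, act_one.2 (one_mem _), stab_mem b (one_mem _)⟩

theorem exists_pi [Fact p.Prime] [Finite C] [Finite Γ] [Finite Ω] (hα : Function.Injective α) {H : Subgroup Γ}
    (hH : H = Subgroup.centralizer (α.range : Set Γ)) (b : Set (IrrCharacter H)) {T : Subgroup (Perm Ω)}
    (hT : T ≤ S.L) (h : ∀ σ ∈ S.L, ∃ g, Act α g σ ∧ StabilizesBlock H b g) :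
    ∃ (N : Subgroup Γ) (π : N →* Perm Ω), H ≤ N ∧ (∀ n : N, Act α n (π n) ∧ StabilizesBlock H b n) ∧
      π.range = T ∧ π.ker = H.subgroupOf N := by
  let X := toSub (prs α b hT)
  let f : X →* Γ := (MonoidHom.fst _ _).comp X.subtype
  have hf : Function.Injective f := (injective_iff_map_eq_one f).2 fun x hx =>
    Subtype.ext (Prod.ext hx (eq_one hα (hT x.2.1) x.2.2.1 (by
      rw [show x.1.1 = 1 from hx]
      exact one_mem _)))
  let e := MonoidHom.ofInjective hf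
  have he : ∀ n : f.range, (e.symm n).1.1 = n := fun n => MonoidHom.apply_ofInjective_symm hf n
  refine ⟨f.range, ((MonoidHom.snd _ _).comp X.subtype).comp e.symm.toMonoidHom,
    fun g hg => ⟨⟨(g, 1), one_mem _, act_one.2 (hH ▸ hg), stab_mem b hg⟩, rfl⟩,
    fun n => he n ▸ (e.symm n).2.2, le_antisymm ?_ fun σ hσ => ?_, ?_⟩
  · rintro _ ⟨n, rfl⟩
    exact (e.symm n).2.1
  · obtain ⟨g, h1, h2⟩ := h σ (hT hσ)
    exact ⟨e ⟨(g, σ), hσ, h1, h2⟩, congrArg (fun x : X => x.1.2) (e.symm_apply_apply _)⟩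
  · ext n
    have h1 := (e.symm n).2
    refine ⟨fun h2 => ?_, fun h2 => eq_one hα (hT h1.1) h1.2.1 (by rw [he, ← hH]; exact h2)⟩
    have h3 := h1.2.1
    rw [show (e.symm n).1.2 = 1 from h2, act_one, he, ← hH] at h3
    exact h3

end Fong

open Fong

/-- **The block theory.** -/
theorem boxF : BoxF := by
  intro p a _ M hM C Γ Ω Δ _ _ _ _ _ _ S α hα H hH b B hind hV hL hdeg P hP
  classical
  have hp : p.Prime := Fact.out
  have := Local.isPrime_of_isPModular hM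
  obtain ⟨T⟩ : Nonempty (Sylow p S.L) := inferInstance
  obtain ⟨N, π, hHN, hπ, hr, hk⟩ := exists_pi hα hH b (Subgroup.map_subtype_le (T : Subgroup S.L)) hL
  have hVH : α.range ≤ H := by
    rintro _ ⟨w, rfl⟩
    rw [hH]
    rintro _ ⟨w', rfl⟩
    rw [← map_mul, ← map_mul, mul_comm]
  have hn : (H.subgroupOf N).Normal := hk ▸ inferInstance
  letI := Fintype.ofFinite N
  letI := Fintype.ofFinite (H.subgroupOf N)
  let e : H.subgroupOf N ≃* H := Subgroup.subgroupOfEquivOfLe hHN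
  have hc := H646.SubT.isPBlock_subE hHN hind.1
  have htr : H646.SubT.subE hHN b = H662.trB e.symm b := Set.ext fun _ => H649.mem_blkMap
  have hA : Nat.card α.range = Nat.card S.A := (Nat.card_congr (MonoidHom.ofInjective hα).toEquiv).symm
  have hVd : IsDefectGroup p M (H646.SubT.subE hHN b) ((α.range.subgroupOf N).subgroupOf (H.subgroupOf N)) := by
    rw [htr]
    convert H662.isDefectGroup_trB e.symm hV using 1
    ext x
    exact ⟨fun hx => ⟨e x, hx, e.symm_apply_apply x⟩, fun ⟨y, hy, h1⟩ => h1 ▸ hy⟩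
  have hVN : α.range.subgroupOf N ≤ H.subgroupOf N := fun x hx => hVH hx
  have hcard : Nat.card ((α.range.subgroupOf N).subgroupOf (H.subgroupOf N)) = Nat.card S.A := by
    rw [Nat.card_congr (Subgroup.subgroupOfEquivOfLe hVN).toEquiv,
      Nat.card_congr (Subgroup.subgroupOfEquivOfLe (hVH.trans hHN)).toEquiv, hA]
  have h1 := S0908.result p M hM _ hc _ hVd
  have hcen : Subgroup.centralizer (α.range.subgroupOf N : Set N) = H.subgroupOf N := by
    ext x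
    rw [Subgroup.mem_subgroupOf, hH]
    exact ⟨fun h y hy => congrArg Subtype.val (h ⟨y, hHN (hVH hy)⟩ hy), fun h y hy => Subtype.ext (h y hy)⟩
  obtain ⟨β, hβ⟩ := S0919.result p M hM (α.range.subgroupOf N) (H.subgroupOf N)
    (IsPGroup.of_card (by
      rw [← h1, hcard, Nat.card_congr (Subgroup.subgroupOfEquivOfLe (hVH.trans hHN)).toEquiv, hA]))
    hVN hcen.le (hcen.ge.trans (Subgroup.centralizer_le_normalizer _)) _ hc
  obtain ⟨ξ, hξ⟩ := Basic.isPBlock_nonempty hc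
  obtain ⟨χ, hχ, hne⟩ := S0934.result p M hM _ _ β hβ ξ hξ
  obtain ⟨Q, hQ, hQH⟩ := S4438.result p M hM _ _ hc _ hVN hVd β hβ.2.1 ⟨χ, hχ, ξ, hξ, hne⟩
  have hidx : (H.subgroupOf N).index = p ^ (Nat.card S.L).factorization p := by
    rw [← hk, Subgroup.index_ker, hr, Subgroup.card_map_of_injective S.L.subtype_injective, T.card_eq_multiplicity]
  obtain ⟨h2, -, h3⟩ := H646.PIndex.sup_eq_top_and_defect _ hM ⟨_, hidx⟩ hc
    (fun x => H646.SubT.stabilizesBlock_subE hHN (hπ x).2) hβ.2.1 ⟨χ, hχ, ξ, hξ, hne⟩ hQ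
  have hβB : IsInducedBlock M N β B := H662.induced_of_trans e (fun _ => rfl) hβ (by
    rw [htr]
    convert hind
    ext η
    rw [H662.mem_trB, H662.mem_trB, MulEquiv.symm_symm, H662.tr_tr_symm])
  obtain ⟨E, hE, hQE⟩ := S0917.result p M hM N β hβ.2.1 B hind.2.1 hβB Q hQ
  have h4 : Q.map N.subtype = E := by
    refine Subgroup.eq_of_le_of_card_ge hQE ?_
    rw [Subgroup.card_map_of_injective N.subtype_injective, S0908.result p M hM _ hβ.2.1 _ hQ,
      S0908.result p M hM _ hind.2.1 _ hE, h3, hidx, hp.factorization_pow, Finsupp.single_eq_same]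
    refine Nat.pow_le_pow_right hp.pos ?_
    obtain ⟨ψ, hψ, h5⟩ := Nat.sInf_mem ((Basic.isPBlock_nonempty hind.2.1).image
      fun χ : IrrCharacter Γ => (charDegree (χ : Γ → ℂ)).factorization p)
    have h6 := hdeg ψ hψ
    rw [← hcard, h1, hp.factorization_pow, Finsupp.single_eq_same] at h6
    have h7 : blockDefect p B = (Nat.card Γ).factorization p - (charDegree (ψ : Γ → ℂ)).factorization p :=
      congrArg (fun n => (Nat.card Γ).factorization p - n) h5.symm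
    omega
  obtain ⟨g, rfl⟩ := H662.defectGroup_conj hM hind.2.1 hE hP
  subst h4
  have h5 : ∀ x : (Q.map N.subtype).map (MulAut.conj g).toMonoidHom, ∃ y ∈ Q, g * (y : Γ) * g⁻¹ = x := by
    rintro ⟨_, _, ⟨y, hy, rfl⟩, rfl⟩
    exact ⟨y, hy, rfl⟩
  let φ : (Q.map N.subtype).map (MulAut.conj g).toMonoidHom →* N :=
    ((MulAut.conj g⁻¹).toMonoidHom.comp (Subgroup.subtype _)).codRestrict N fun x => by
      obtain ⟨y, -, h6⟩ := h5 x
      change g⁻¹ * x * g⁻¹⁻¹ ∈ N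
      rw [← h6, show g⁻¹ * (g * (y : Γ) * g⁻¹) * g⁻¹⁻¹ = y by group]
      exact y.2
  have hφ : ∀ (x : (Q.map N.subtype).map (MulAut.conj g).toMonoidHom) (y : N), g * (y : Γ) * g⁻¹ = x → φ x = y :=
    fun x y h => Subtype.ext (by
      change g⁻¹ * x * g⁻¹⁻¹ = y
      rw [← h]
      group)
  refine ⟨g, π.comp φ, (MulAut.conj g).injective.comp hα, ?_, fun x hx => ?_, fun x w w' hw => ?_, T, ?_⟩
  · rintro _ ⟨w, rfl⟩
    have h6 : (⟨α w, hHN (hVH ⟨w, rfl⟩)⟩ : N) ∈ Q ⊓ H.subgroupOf N := hQH ▸ ⟨w, rfl⟩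
    exact ⟨α w, ⟨_, h6.1, rfl⟩, rfl⟩
  · obtain ⟨y, hy, h6⟩ := h5 x
    have h7 : y ∈ Q ⊓ H.subgroupOf N := ⟨hy, hk ▸ (hφ x y h6 ▸ hx : π y = 1)⟩
    rw [hQH] at h7
    obtain ⟨w, hw⟩ := h7
    exact ⟨w, (congrArg (fun z => g * z * g⁻¹) hw).trans h6⟩
  · obtain ⟨y, -, h6⟩ := h5 x
    rw [MonoidHom.comp_apply, hφ x y h6] at hw
    change x * (g * α w * g⁻¹) * (x : Γ)⁻¹ = g * α w' * g⁻¹
    rw [← (hπ y).1 w w' hw, ← h6]
    group
  · rw [← hr]
    refine le_antisymm (fun _ ⟨x, hx⟩ => ⟨φ x, hx⟩) ?_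
    rintro _ ⟨n, rfl⟩
    obtain ⟨h, hh, y, hy, rfl⟩ := Subgroup.mem_sup_of_normal_left.1 (h2 ▸ Subgroup.mem_top n)
    refine ⟨⟨g * y * g⁻¹, y, ⟨y, hy, rfl⟩, rfl⟩, ?_⟩
    rw [MonoidHom.comp_apply, hφ _ y rfl, map_mul, show π h = 1 from (hk ▸ hh : h ∈ π.ker), one_mul]

end Cfsg.Agent.RC.A
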