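import Cfsg.Agent.RC.A.Defs

/-!
# RC, type A: the group theory of the frames (helper64)
-/

set_option autoImplicit false

namespace Cfsg.Agent.RC.A

open Cfsg Equiv Subgroup
open scoped commutatorElement

namespace Grp

section cyc

variable {C : Type} [CommGroup C] [Finite C] [IsCyclic C]

theorem card_mu {n : ℕ} (h : n ∣ Nat.card C) : Nat.card (mu C n) = n := by
  rw [mu, IsCyclic.card_powMonoidHom_ker, Nat.gcd_eq_right h]

theorem exists_ord {n : ℕ} (h : n ∣ Nat.card C) : ∃ x : C, orderOf x = n := by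
  obtain ⟨x, hx⟩ := IsCyclic.exists_ofOrder_eq_natCard (α := mu C n)
  exact ⟨x, by rw [orderOf_coe, hx, card_mu h]⟩

theorem mem_zp {x y : C} (h : y ^ orderOf x = 1) : y ∈ zpowers x :=
  (eq_of_le_of_card_ge (zpowers_le.2 (pow_orderOf_eq_one x) : zpowers x ≤ mu C (orderOf x))
    (by rw [card_mu (orderOf_dvd_natCard x), Nat.card_zpowers])).ge h

theorem card_pi {ι : Type} [Fintype ι] (n : ι → ℕ) (h : ∀ i, n i ∣ Nat.card C) :
    Nat.card (Subgroup.pi Set.univ fun i => mu C (n i)) = ∏ i, n i := by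
  rw [← Finset.prod_congr rfl fun i _ => card_mu (h i), ← Nat.card_pi]
  exact Nat.card_congr ⟨fun w i => ⟨w.1 i, w.2 i trivial⟩, fun w => ⟨fun i => w i, fun i _ => (w i).2⟩, fun _ => rfl,
    fun _ => rfl⟩

end cyc

/-- cyclic groups on the parts of a partition -/
theorem parts {p : ℕ} [hp : Fact p.Prime] {Ω I : Type} [Finite Ω] [Fintype I] (ρ : Ω → I) (u : I → ℕ)
    (hu : ∀ j, Nat.card {i // ρ i = j} = p ^ u j) : ∃ E : Subgroup (Perm Ω), IsPGroup p E ∧ (∀ σ ∈ E, ∀ i, ρ (σ i) = ρ i) ∧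
      ∀ i i', ρ i = ρ i' → ∃ σ ∈ E, σ i = i' ∧ ∀ k, ρ k ≠ ρ i → σ k = k := by
  classical
  have h0 : ∀ j, NeZero (p ^ u j) := fun j => ⟨pow_ne_zero _ hp.out.ne_zero⟩
  let G : I → Type := fun j => Multiplicative (ZMod (p ^ u j))
  have h1 : ∀ j, Nat.card (G j) = p ^ u j := fun j => (Nat.card_congr Multiplicative.toAdd).trans (Nat.card_zmod _)
  have f : ∀ j, G j ≃ {i // ρ i = j} := fun j => (Finite.card_eq.1 ((h1 j).trans (hu j).symm)).some
  let e : (Σ j, G j) ≃ Ω := (sigmaCongrRight f).trans (sigmaFiberEquiv ρ)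
  have he : ∀ j t, ρ (e ⟨j, t⟩) = j := fun j t => (f j t).2
  let Θ : (∀ j, G j) →* Perm Ω := e.permCongrHom.toMonoidHom.comp ((Perm.sigmaCongrRightHom G).comp
    (MonoidHom.pi fun j => (MulAction.toPermHom (G j) (G j)).comp (Pi.evalMonoidHom G j)))
  have hΘ : ∀ z j t, Θ z (e ⟨j, t⟩) = e ⟨j, z j * t⟩ := fun z j t => by
    show e (_root_.Equiv.Perm.sigmaCongrRight _ (e.symm (e ⟨j, t⟩))) = _
    rw [e.symm_apply_apply]
    rfl
  refine ⟨Θ.range, (IsPGroup.of_card (n := ∑ j, u j) ?_).of_surjective _ Θ.rangeRestrict_surjective, ?_, fun i i' h => ?_⟩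
  · rw [Nat.card_pi, ← Finset.prod_pow_eq_pow_sum]
    exact Finset.prod_congr rfl fun j _ => h1 j
  · rintro _ ⟨z, rfl⟩ i
    obtain ⟨⟨j, t⟩, rfl⟩ := e.surjective i
    rw [hΘ, he, he]
  · obtain ⟨⟨j, t⟩, rfl⟩ := e.surjective i
    obtain ⟨⟨j', t'⟩, rfl⟩ := e.surjective i'
    rw [he, he] at h
    subst h
    refine ⟨_, ⟨Pi.mulSingle j (t' * t⁻¹), rfl⟩, by rw [hΘ, Pi.mulSingle_eq_same, inv_mul_cancel_right], fun k hk => ?_⟩
    obtain ⟨⟨l, s⟩, rfl⟩ := e.surjective k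
    rw [he, he] at hk
    rw [hΘ, Pi.mulSingle_eq_of_ne hk, one_mul]

theorem fac_le {p a n N : ℕ} (hp : p.Prime) (h : p ^ a * n ∣ p ^ N) : a + n.factorization p ≤ N :=
  (Nat.pow_dvd_pow_iff_le_right hp.one_lt).1 (pow_add p a _ ▸ (Nat.mul_dvd_mul_left _ (Nat.ordProj_dvd n p)).trans h)

variable {p a : ℕ} [hp : Fact p.Prime] {C Γ Ω Δ : Type} [CommGroup C] [Finite C] [IsCyclic C] [Group Γ] [Finite Γ]
  [Fintype Ω] {S : Sh p a C Ω Δ} {d : Γ →* C} {U P : Subgroup Γ} {α : S.A →* Γ} {π : P →* Perm Ω}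

omit [Fintype Ω] in
theorem gen (S : Sh p a C Ω Δ) (i : Ω) : ∃ x : C, orderOf x = p ^ S.b (S.lab i) ∧ orderOf (x ^ S.e (S.lab i)) = p ^ a := by
  obtain ⟨x, hx⟩ := exists_ord (S.dvd i)
  have h1 : orderOf (x ^ p ^ (S.e (S.lab i)).factorization p) = p ^ a := by
    rw [orderOf_pow_of_dvd (pow_ne_zero _ hp.out.ne_zero) (by rw [hx, ← S.fac]; exact pow_dvd_pow _ le_self_add), hx, ← S.fac,
      pow_add, Nat.mul_div_cancel_left _ (pow_pos hp.out.pos _)]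
  refine ⟨x, hx, ?_⟩
  rw [← Nat.ordProj_mul_ordCompl_eq_self (S.e (S.lab i)) p, pow_mul, Nat.Coprime.orderOf_pow, h1]
  rw [h1]
  exact (Nat.coprime_ordCompl hp.out (S.ne i)).pow_left _

omit [Finite C] [IsCyclic C] in
theorem ne_one {x : C} {n : ℕ} (hn : 0 < n) (h : orderOf x = p ^ n) : x ≠ 1 := fun k => by
  rw [k, orderOf_one] at h
  exact (Nat.one_lt_pow hn.ne' hp.out.one_lt).ne h

open Classical in
/-- elements with one coordinate -/
noncomputable def sg (S : Sh p a C Ω Δ) (i : Ω) (x : C) (hx : x ^ p ^ S.b (S.lab i) = 1) : S.A :=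
  ⟨Pi.mulSingle i x, S.mem_A.2 fun j => by
    by_cases k : j = i
    · rw [k, Pi.mulSingle_eq_same, hx]
    · rw [Pi.mulSingle_eq_of_ne k, one_pow]⟩

section

omit [Finite C] [IsCyclic C] [Finite Γ] hp

omit [Fintype Ω] in
theorem sg_same (i : Ω) (x : C) (hx : x ^ p ^ S.b (S.lab i) = 1) : (sg S i x hx).1 i = x := by
  classical
  exact Pi.mulSingle_eq_same (M := fun _ => C) i x

omit [Fintype Ω] in
theorem sg_ne {i j : Ω} (k : j ≠ i) (x : C) (hx : x ^ p ^ S.b (S.lab i) = 1) : (sg S i x hx).1 j = 1 := by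
  classical
  exact Pi.mulSingle_eq_of_ne k _

theorem d_sg (F : Fr d U P α π) (i : Ω) (x : C) (hx : x ^ p ^ S.b (S.lab i) = 1) :
    d (α (sg S i x hx)) = x ^ S.e (S.lab i) := by
  rw [F.det, Finset.prod_eq_single i (fun j _ k => by rw [sg_ne k, one_pow]) fun k => absurd (Finset.mem_univ i) k, sg_same]

theorem memL (F : Fr d U P α π) (x : P) : π x ∈ S.L := by
  obtain ⟨T, hT⟩ := F.syl
  obtain ⟨y, -, hy⟩ := hT.le ⟨x, rfl⟩
  exact hy ▸ y.2

theorem pR (F : Fr d U P α π) : IsPGroup p π.range := by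
  obtain ⟨T, hT⟩ := F.syl
  exact hT ▸ T.2.map _

theorem cj (F : Fr d U P α π) (x : P) (w : S.A) : ∃ w' : S.A, (∀ i, w'.1 (π x i) = w.1 i) ∧ x.1 * α w * x.1⁻¹ = α w' := by
  have h : ∀ i, w.1 ((π x)⁻¹ (π x i)) = w.1 i := fun i => congrArg _ ((π x).symm_apply_apply i)
  exact ⟨⟨fun i => w.1 ((π x)⁻¹ i), S.mem_A.2 fun i => inv_mem (memL F x) i ▸ S.mem_A.1 w.2 _⟩, h, F.act x _ _ h⟩

/-- commutators in `U` -/
theorem scal (F : Fr d U P α π) (x : P) (w : S.A) (h : ⁅α w, x.1⁆ ∈ U) :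
    ∃ c : C, (U = ⊥ → c = 1) ∧ ∀ i, w.1 (π x i) = c * w.1 i := by
  obtain ⟨w', h1, h2⟩ := cj F x w
  have h3 : ⁅α w, x.1⁆ = α (w * w'⁻¹) := by
    rw [map_mul, map_inv, ← h2, commutatorElement_def]
    group
  by_cases k : U = ⊥
  · rw [k, mem_bot, h3, map_eq_one_iff _ F.inj, mul_inv_eq_one] at h
    exact ⟨1, fun _ => rfl, fun i => by rw [one_mul, ← h1 i, h]⟩
  · obtain ⟨v, c, h4, -, h5⟩ := F.sc _ h
    refine ⟨c, fun k' => absurd k' k, fun i => ?_⟩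
    rw [← h5 (π x i), F.inj (h4.trans h3), ← h1 i]
    exact (inv_mul_cancel_right _ _).symm

end

omit [Finite Γ] in
theorem pi_one (F : Fr d U P α π) (w : S.A) : π ⟨α w, F.le ⟨w, rfl⟩⟩ = 1 := Perm.ext fun i => by
  obtain ⟨x, h1, h2⟩ := gen S i
  obtain ⟨w', h3, h4⟩ := cj F ⟨α w, F.le ⟨w, rfl⟩⟩ (sg S i x (h1 ▸ pow_orderOf_eq_one x))
  replace h4 : α w * α _ * (α w)⁻¹ = α w' := h4
  rw [← map_inv, ← map_mul, ← map_mul, mul_inv_cancel_comm] at h4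
  by_contra k
  have h5 := h3 i
  rw [← F.inj h4, sg_ne (i := i) k, sg_same] at h5
  exact ne_one S.pos h2 (by rw [← h5, one_pow])

omit [Finite C] [IsCyclic C] [Finite Γ] hp in
theorem pP (F : Fr d U P α π) : IsPGroup p P := fun x => by
  obtain ⟨k, hk⟩ := pR F ⟨π x, x, rfl⟩
  obtain ⟨w, hw⟩ := F.ker (x ^ p ^ k) (by rw [map_pow]; exact congrArg Subtype.val hk)
  have h : w ^ p ^ ∑ i, S.b (S.lab i) = 1 := Subtype.ext (funext fun i => by
    obtain ⟨m, hm⟩ := Nat.exists_eq_add_of_le (Finset.single_le_sum (f := fun i => S.b (S.lab i)) (fun _ _ => Nat.zero_le _)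
      (Finset.mem_univ i))
    show w.1 i ^ _ = 1
    rw [hm, pow_add, pow_mul, S.mem_A.1 w.2, one_pow])
  refine ⟨k + ∑ i, S.b (S.lab i), Subtype.ext ?_⟩
  rw [pow_add, pow_mul, SubmonoidClass.coe_pow, ← hw, ← map_pow, h, map_one, OneMemClass.coe_one]

omit [Finite Γ] in
/-- `P = D A` -/
theorem lift (F : Fr d U P α π) (i : Ω) (x : P) : ∃ y : P, y.1 ∈ d.ker ∧ π y = π x := by
  obtain ⟨k, hk⟩ := pP F x
  obtain ⟨z, h1, h2⟩ := gen S i
  obtain ⟨n, hn⟩ := mem_zpowers_iff.1 (mem_zp (h2 ▸ F.rng x k (by rw [← map_pow, ← SubmonoidClass.coe_pow, hk]; exact map_one d)))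
  have h3 : (z ^ n) ^ p ^ S.b (S.lab i) = 1 := by
    rw [← zpow_natCast, ← zpow_mul, mul_comm, zpow_mul, zpow_natCast, ← h1, pow_orderOf_eq_one, one_zpow]
  refine ⟨x * (⟨α (sg S i _ h3), F.le ⟨_, rfl⟩⟩ : P)⁻¹, ?_, by rw [map_mul, map_inv, pi_one F, inv_one, mul_one]⟩
  show d (x * (α _)⁻¹) = 1
  rw [map_mul, map_inv, d_sg F, ← hn, mul_inv_eq_one, ← zpow_natCast, ← zpow_natCast, ← zpow_mul, ← zpow_mul, mul_comm]

omit [Finite Γ] in
/-- the exception -/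
theorem exc (h2 : p ≠ 2) (F : Fr d U P α π) (h4 : 4 ≤ (Nat.card (P ⊓ d.ker : Subgroup Γ)).factorization p) (x : P)
    (h : ∀ w : S.A, d (α w) = 1 → ∃ c : C, ∀ i, w.1 (π x i) = c * w.1 i) : π x = 1 := by
  classical
  by_contra k
  obtain ⟨i, hi⟩ : ∃ i, π x i ≠ i := not_forall.1 fun k' => k (Perm.ext k')
  have hL := memL F x
  have h1 : π x (π x i) ≠ i := fun k' => by
    obtain ⟨n, hn⟩ := pR F ⟨π x, x, rfl⟩
    obtain ⟨m, hm⟩ := (hp.out.odd_of_ne_two h2).pow (n := n)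
    have k1 : (π x ^ p ^ n) i = i := congrArg (fun σ : π.range => σ.1 i) hn
    have k2 : (π x ^ 2) i = i := k'
    rw [hm, pow_succ', pow_mul, Perm.mul_apply, Perm.pow_apply_eq_self_of_apply_eq_self k2] at k1
    exact hi k1
  obtain ⟨z, z1, z2⟩ := gen S i
  have z3 : z ^ p ^ S.b (S.lab i) = 1 := z1 ▸ pow_orderOf_eq_one z
  have z4 : z⁻¹ ^ p ^ S.b (S.lab (π x i)) = 1 := by rw [hL, inv_pow, z3, inv_one]
  have b0 : 0 < S.b (S.lab i) := S.fac i ▸ Nat.add_pos_right _ S.pos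
  obtain ⟨c, hc⟩ := h (sg S i z z3 * sg S _ _ z4) (by rw [map_mul, map_mul, d_sg F, d_sg F, hL, inv_pow, mul_inv_cancel])
  have h3 : ∀ j, (sg S i z z3 * sg S _ _ z4).1 j = (sg S i z z3).1 j * (sg S _ _ z4).1 j := fun _ => rfl
  have c1 := hc i
  have c2 := hc (π x i)
  rw [h3, h3, sg_ne hi, sg_same, sg_same, sg_ne hi.symm, one_mul, mul_one, eq_comm, ← eq_mul_inv_iff_mul_eq] at c1
  rw [h3, h3, sg_ne h1, sg_ne ((π x).injective.ne hi), sg_ne hi, sg_same, one_mul, one_mul, eq_comm, mul_inv_eq_one] at c2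
  have c3 : p ^ S.b (S.lab i) ∣ 3 := z1 ▸ orderOf_dvd_of_pow_eq_one (by
    rw [pow_three, ← eq_inv_iff_mul_eq_one, _root_.mul_inv_rev, ← c1, c2])
  have p3 : p = 3 := (Nat.prime_dvd_prime_iff_eq hp.out Nat.prime_three).1 ((dvd_pow_self p b0.ne').trans c3)
  have c4 : ∀ j, j = i ∨ j = π x i ∨ j = (π x)⁻¹ i := fun j => by
    by_contra k'
    rw [not_or, not_or] at k'
    have c5 := hc j
    rw [h3, h3, sg_ne k'.1, sg_ne k'.2.1, sg_ne ((π x).injective.ne k'.1), sg_ne fun q => k'.2.2 (Perm.eq_inv_iff_eq.2 q), c2]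
      at c5
    exact ne_one b0 z1 (by simpa using c5.symm)
  have c5 : Fintype.card Ω ≤ 3 := (Finset.card_le_card fun j _ => by simpa using c4 j :
    Finset.univ.card ≤ ({i, π x i, (π x)⁻¹ i} : Finset Ω).card).trans Finset.card_le_three
  have c6 : Nat.card S.A ∣ 27 := by
    refine (card_pi _ S.dvd).dvd.trans ((Finset.prod_dvd_prod_of_dvd _ (fun _ => 3) fun j _ => ?_).trans ?_)
    · rcases c4 j with rfl | rfl | rfl
      exacts [c3, hL i ▸ c3, inv_mem hL i ▸ c3]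
    · rw [Finset.prod_const]
      exact pow_dvd_pow 3 c5
  have c7 : Nat.card P ∣ 27 * 6 := by
    rw [← π.ker.card_mul_index, index_ker]
    refine Nat.mul_dvd_mul ?_ ((card_subgroup_dvd_card _).trans ?_)
    · rw [← card_map_of_injective P.subtype_injective]
      refine (card_dvd_of_le (show _ ≤ α.range from ?_)).trans ((card_range_dvd α).trans c6)
      rintro _ ⟨y, hy, rfl⟩
      exact F.ker y hy
    · rw [Nat.card_eq_fintype_card, Fintype.card_perm]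
      exact Nat.factorial_dvd_factorial c5
  obtain ⟨n, hn⟩ := (pP F).index (d.ker.subgroupOf P)
  have c8 : p ^ 4 * p ∣ Nat.card P := by
    rw [← (d.ker.subgroupOf P).card_mul_index, ← inf_subgroupOf_left, Nat.card_congr (subgroupOfEquivOfLe inf_le_left).toEquiv,
      inf_subgroupOf_left, hn]
    refine Nat.mul_dvd_mul ((pow_dvd_pow p h4).trans (Nat.ordProj_dvd _ p)) (dvd_pow_self p fun k' => ?_)
    rw [k', pow_zero, index_eq_one] at hn
    exact ne_one S.pos z2 ((d_sg F i z z3).symm.trans (hn.ge (mem_top (⟨α _, F.le ⟨_, rfl⟩⟩ : P))))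
  exact absurd (p3 ▸ c8.trans c7) (by decide)

end Grp

open Grp

theorem boxG : BoxG := by
  intro p a hp h2 C Γ Ω Δ I _ _ _ _ _ _ _ S d U P W α π F hW hU h4 hP ρ₀ lb u hl₀ hu₀
  classical
  obtain ⟨x₀, hx₀⟩ : ∃ x, π x ≠ 1 := not_forall.1 fun k => hP ⟨⟨fun x y => Subtype.ext (by
    obtain ⟨v, hv⟩ := F.ker x (k x)
    obtain ⟨w, hw⟩ := F.ker y (k y)
    show x.1 * y.1 = y.1 * x.1
    rw [← hv, ← hw, ← map_mul, ← map_mul, mul_comm])⟩⟩
  obtain ⟨i₀, hi₀⟩ : ∃ i, π x₀ i ≠ i := not_forall.1 fun k => hx₀ (Perm.ext k)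
  obtain ⟨ρ, hl, hu, hρ⟩ : ∃ ρ : Ω → I, (∀ i, lb (ρ i) = S.lab i) ∧ (∀ j, Nat.card {i // ρ i = j} = p ^ u j) ∧
      ∀ i i', ρ i = ρ i' → ∃ x, π x i = i' ∧ ∀ k, ρ k ≠ ρ i → π x k = k := by
    obtain ⟨E, e1, e2, e3⟩ := parts ρ₀ u hu₀
    obtain ⟨T, hT⟩ := F.syl
    obtain ⟨Q, hQ⟩ := (e1.comap_subtype (K := S.L)).exists_le_sylow
    obtain ⟨g, rfl⟩ := MulAction.exists_smul_eq S.L Q T
    refine ⟨fun i => ρ₀ (g.1⁻¹ i), fun i => (hl₀ _).trans (inv_mem g.2 i), fun j => (Nat.card_congr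
      (subtypeEquiv g.1⁻¹ fun _ => Iff.rfl)).trans (hu₀ j), fun i i' h => ?_⟩
    obtain ⟨σ, s1, s2, s3⟩ := e3 _ _ h
    obtain ⟨x, hx⟩ := hT.ge ⟨_, smul_mem_pointwise_smul _ (MulAut.conj g) _
      (hQ (show (⟨σ, fun k => by rw [← hl₀, e2 σ s1, hl₀]⟩ : S.L) ∈ E.comap S.L.subtype from s1)), rfl⟩
    have h1 : ∀ k, π x k = g.1 (σ (g.1⁻¹ k)) := fun k => by rw [hx]; rfl
    exact ⟨x, by rw [h1, s2]; exact g.1.apply_symm_apply _, fun k hk => by rw [h1, s3 _ hk]; exact g.1.apply_symm_apply _⟩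
  have sur : ∀ j, ∃ i, ρ i = j := fun j =>
    (Nat.card_ne_zero.1 ((hu j).trans_ne (pow_ne_zero _ hp.out.ne_zero))).1.elim fun i => ⟨i.1, i.2⟩
  have w1 : ∀ v : S.A, α v ∈ W → ∀ x, ∃ c : C, (U = ⊥ → c = 1) ∧ ∀ i, v.1 (π x i) = c * v.1 i := fun v hv x => by
    obtain ⟨y, y1, y2⟩ := lift F i₀ x
    exact y2 ▸ scal F y v (hU _ hv _ ⟨y.2, y1⟩)
  have w2 : W ≤ α.range := fun w hw => F.ker ⟨w, (hW hw).1⟩ (exc h2 F h4 _ fun v hv =>
    (scal F ⟨w, (hW hw).1⟩ v (by rw [← commutatorElement_inv]; exact inv_mem (hU _ hw _ ⟨F.le ⟨v, rfl⟩, hv⟩))).imp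
      fun _ k => k.2)
  let B : Subgroup (I → C) := Subgroup.pi Set.univ fun j => mu C (p ^ S.b (lb j))
  let β : B →* S.A := ⟨⟨fun y => ⟨fun i => y.1 (ρ i), S.mem_A.2 fun i => hl i ▸ y.2 _ trivial⟩, rfl⟩, fun _ _ => rfl⟩
  let K : Subgroup Γ := (d.comp (α.comp β)).ker.map (α.comp β)
  have k1 : ∀ j, p ^ a * Nat.card K ∣ p ^ (∑ j, S.b (lb j) + u j) := fun j => by
    obtain ⟨i, rfl⟩ := sur j
    obtain ⟨z, z1, z2⟩ := gen S i
    let y : B := ⟨Pi.mulSingle (ρ i) z, fun j _ => mem_mu.2 (by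
      by_cases k : j = ρ i
      · rw [k, Pi.mulSingle_eq_same, hl, ← z1, pow_orderOf_eq_one]
      · rw [Pi.mulSingle_eq_of_ne k, one_pow])⟩
    have y1 : d (α (β y)) = (z ^ S.e (S.lab i)) ^ p ^ u (ρ i) := by
      rw [F.det, ← hu, Nat.card_eq_fintype_card, Fintype.card_subtype, ← Finset.prod_const, Finset.prod_filter]
      refine Finset.prod_congr rfl fun k _ => ?_
      show (Pi.mulSingle (ρ i) z : I → C) (ρ k) ^ _ = _
      split_ifs with q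
      · rw [q, Pi.mulSingle_eq_same, ← hl, q, hl]
      · rw [Pi.mulSingle_eq_of_ne q, one_pow]
    have y2 : p ^ a ∣ p ^ u (ρ i) * Nat.card (d.comp (α.comp β)).range := z2 ▸ orderOf_dvd_of_pow_eq_one (by
      rw [pow_mul, ← y1]
      exact congrArg Subtype.val (pow_card_eq_one' (x := (⟨_, y, rfl⟩ : (d.comp (α.comp β)).range))))
    rw [pow_add, ← Finset.prod_pow_eq_pow_sum, ← card_pi (C := C) _ fun j => (sur j).elim fun k q => by
      rw [← q, hl]; exact S.dvd k, ← (d.comp (α.comp β)).ker.card_mul_index, index_ker, mul_comm, mul_assoc, mul_comm _ (p ^ u _)]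
    exact Nat.mul_dvd_mul (card_map_dvd _ _) y2
  have k2 : ∀ v : S.A, d (α v) = 1 → (∀ i i', ρ i = ρ i' → v.1 i' = v.1 i) → α v ∈ K := fun v h1 h3 => by
    choose s hs using sur
    have h5 : β ⟨fun j => v.1 (s j), fun j _ => mem_mu.2 ((hl (s j)).symm.trans (congrArg lb (hs j)) ▸ S.mem_A.1 v.2 (s j))⟩ = v :=
      Subtype.ext (funext fun i => h3 _ _ (hs _).symm)
    exact ⟨_, (congrArg (fun t => d (α t)) h5).trans h1, congrArg α h5⟩
  have k3 : 2 ≤ Fintype.card I ∨ U = ⊥ → W ≤ K := fun h w hw => by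
    obtain ⟨v, rfl⟩ := w2 hw
    refine k2 v (hW hw).2 fun i i' q => ?_
    obtain ⟨x, rfl, x2⟩ := hρ i i' q
    obtain ⟨c, c1, c2⟩ := w1 v hw x
    rw [c2, h.elim (fun h => ?_) c1, one_mul]
    obtain ⟨j, hj⟩ := Fintype.exists_ne_of_one_lt_card h (ρ i)
    obtain ⟨k, rfl⟩ := sur j
    exact right_eq_mul.1 (x2 k hj ▸ c2 k)
  have k4 : ∀ j, u j ≤ ∑ j, u j := fun j => Finset.single_le_sum (fun _ _ => Nat.zero_le _) (Finset.mem_univ j)
  rw [Finset.sum_add_distrib]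
  refine ⟨fun h => ?_, fun h => (fac_le hp.out ((Nat.mul_dvd_mul_left _ (card_dvd_of_le (k3 (.inr h)))).trans
    (k1 (ρ i₀)))).trans (Nat.add_le_add_left (k4 _) _), Fintype.one_lt_card_iff.2 ⟨_, _, hi₀⟩⟩
  by_cases q : ∀ j, u j = 0
  · have q1 : Nat.card W * p ∣ Nat.card K := by
      have q2 : IsPGroup p K := (pP F).to_le (map_le_iff_le_comap.2 fun y _ => F.le ⟨_, rfl⟩)
      obtain ⟨n, hn⟩ := q2.index (W.subgroupOf K)
      rw [← (W.subgroupOf K).card_mul_index, Nat.card_congr (subgroupOfEquivOfLe (k3 (.inl h))).toEquiv, hn]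
      refine Nat.mul_dvd_mul_left _ (dvd_pow_self p fun k' => hx₀ (exc h2 F h4 _ fun v hv => ?_))
      rw [k', pow_zero, index_eq_one, subgroupOf_eq_top] at hn
      refine (w1 v (hn (k2 v hv fun i i' q3 => ?_)) x₀).imp fun _ k => k.2
      have q4 := Nat.card_eq_one_iff_unique.1 ((hu (ρ i)).trans (by rw [q, pow_zero]))
      exact congrArg v.1 (congrArg Subtype.val (q4.1.elim ⟨i', q3.symm⟩ ⟨i, rfl⟩))
    have q2 := fac_le (a := a + 1) (n := Nat.card W) (N := ∑ j, S.b (lb j) + u (ρ i₀)) hp.out (by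
      rw [pow_succ, mul_assoc, mul_comm p]
      exact (Nat.mul_dvd_mul_left _ q1).trans (k1 (ρ i₀)))
    have := k4 (ρ i₀)
    omega
  · obtain ⟨j, hj⟩ := not_forall.1 q
    obtain ⟨l, q1⟩ := Fintype.exists_ne_of_one_lt_card h j
    have q2 := fac_le hp.out ((Nat.mul_dvd_mul_left _ (card_dvd_of_le (k3 (.inl h)))).trans (k1 l))
    have q3 : u l + u j ≤ ∑ j, u j := (Finset.sum_pair q1).ge.trans (Finset.sum_le_sum_of_subset (Finset.subset_univ _))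
    omega

end Cfsg.Agent.RC.A
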