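import Cfsg.Agent.RC.A.Frame
import Cfsg.Agent.RC.A.Grp
import Cfsg.Agent.RC.A.Fong
import Cfsg.Agent.TO.CovD

/-!
# RC, type A (helper65): the symmetries of a frame and the structure of the defect groups

* `Frm.sym` : the permutations of the cells with the same label are induced by elements of `G n`;
* `shp`, `sA` : the shape and the base group; `Frm.fr` : the defect groups.
-/

set_option autoImplicit false
set_option linter.unusedSectionVars false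

namespace Cfsg.Agent.RC.A

open Cfsg Equiv
open Cfsg.Agent.H577.GLB.Std Cfsg.Agent.H615.GU Cfsg.Agent.H623.GU
open Cfsg.Agent.H794.EM (vz tyOne)
open Cfsg.Agent.H624.Sl (scl)
open Cfsg.Agent.Blocks.Local Cfsg.Agent.Blocks.Basic Cfsg.Agent.H592.Transport
open Cfsg.Agent.TID.Red (IndH indH_iff_range)

theorem stab_of {𝔐 : Ideal AlgInt} [𝔐.IsPrime] {X Γ : Type} [Group X] [Group Γ] {J : X →* Γ} (hJ : Function.Injective J)
    {g : Γ} {φ : X ≃* X} (h : ∀ x, g * J x * g⁻¹ = J (φ x)) {ψ : IrrCharacter X}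
    (hψ : ∀ x, (ψ : X → ℂ) (φ x) = (ψ : X → ℂ) x) :
    StabilizesBlock J.range (trSet (MonoidHom.ofInjective hJ).symm (blockOf 𝔐 (ψ : X → ℂ))) g := by
  refine ⟨Subgroup.mem_normalizer_iff.2 fun y => ⟨?_, ?_⟩, fun χ hχ =>
    ⟨tr _ (tr φ.symm (tr (MonoidHom.ofInjective hJ) χ)), tr_mem_trSet.2 ?_, fun k k' hk => ?_⟩⟩
  · rintro ⟨x, rfl⟩
    exact ⟨φ x, (h x).symm⟩
  · rintro ⟨x, hx⟩
    obtain ⟨x, rfl⟩ := φ.surjective x
    rw [← h, mul_left_inj, mul_right_inj] at hx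
    exact ⟨x, hx⟩
  · have h1 : tr φ.symm ψ = ψ := Subtype.ext (funext fun x => by rw [tr_apply, ← hψ, φ.apply_symm_apply])
    rw [← h1, ← trSet_blockOf]
    exact tr_mem_trSet.2 (mem_trSet.1 hχ)
  · obtain ⟨x, rfl⟩ := (MonoidHom.ofInjective hJ).surjective k
    rw [show k' = MonoidHom.ofInjective hJ (φ x) from Subtype.ext (hk.trans (h x)), tr_apply, tr_apply, tr_apply,
      MulEquiv.symm_apply_apply, MulEquiv.symm_apply_apply]

variable {F K : Type} [Field F] [Field K] [Algebra F K] {θ : K →*₀ ℂ} {Q : ℤ} {M : ℕ} [NeZero M] {N p : ℕ}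
  {G : ℕ → Type} [∀ n, Group (G n)] [∀ n, Finite (G n)] {A : Amb F K θ Q M N p G} {𝔐 : Ideal AlgInt}
  {Δ : Type} {v : Δ → ZMod M}

/-- the scalars of `G n` are fixed by the Frobenius map -/
theorem Amb.scalar (A : Amb F K θ Q M N p G) {n : ℕ} (h0 : 0 < n) (hn : n ≤ N) {z : G n} {c : Fˣ} (h : A.ρ n z = scl n c) :
    Units.map (algebraMap F K).toMonoidHom c ^ (Q - 1) = 1 := by
  have := A.ctx.finK
  obtain ⟨w, hw⟩ : ∃ w, w = Units.map (algebraMap F K).toMonoidHom c := ⟨_, rfl⟩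
  have h1 : ∀ x : Kˣ, (A.t.T n hn).typ z (Quotient.mk (orbSetoid K Q) x) =
      tyOne Q n (Quotient.mk (orbSetoid K Q) (w⁻¹ * x)) := fun x => by
    rw [A.typ, h, ← mul_one (scl n c), mcol_scl, ← A.one n hn, A.typ, map_one, hw]
  have h5 : Quotient.mk (orbSetoid K Q) (w ^ Q) = Quotient.mk (orbSetoid K Q) w :=
    Quotient.sound ⟨0, 1, by rw [pow_zero, zpow_one, pow_one]⟩
  have h2 := (h1 (w ^ Q)).symm.trans ((congrArg _ h5).trans (h1 w))
  rw [inv_mul_cancel] at h2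
  rw [← hw]
  by_contra h3
  rw [tyOne, Finsupp.single_eq_of_ne fun h4 => h3 ?_] at h2
  · exact h0.ne (H794.EM.cn_inj (H794.EM.cn_zero.trans (h2.trans Finsupp.single_eq_same)))
  · obtain ⟨i, hi⟩ := (H421.GU.mk_eq_iff A.ctx.card A.ctx.unit).1 h4
    rw [zpow_sub_one, mul_comm, hi, one_zpow]

theorem exists_cast (cl : ∀ δ : Δ, Cell A 𝔐 (v δ)) {δ δ' : Δ} (h : δ = δ') :
    ∃ (a : (cl δ).X ≃* (cl δ').X) (b : (cl δ).W ≃ₗ[F] (cl δ').W),
      (∀ x w, b ((cl δ).act x w) = (cl δ').act (a x) (b w)) ∧ (∀ w w', (cl δ').fm (b w) (b w') = (cl δ).fm w w') ∧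
      (∀ x, ((cl δ').θ₀ : (cl δ').X → ℂ) (a x) = ((cl δ).θ₀ : (cl δ).X → ℂ) x) ∧
      ∀ y y', y.1 = y'.1 → a ((cl δ).s y) = (cl δ').s y' := by
  subst h
  exact ⟨.refl _, .refl _ _, fun _ _ => rfl, fun _ _ => rfl, fun _ => rfl, fun _ _ h => congrArg (cl δ).s (Subtype.ext h)⟩

variable {cl : ∀ δ : Δ, Cell A 𝔐 (v δ)} {Ω : Type} [Fintype Ω] {lab : Ω → Δ} {n : ℕ} {B : Set (IrrCharacter (G n))}
  {ε : (∀ i, (cl (lab i)).W) ≃ₗ[F] (Fin n → F)} {J : (∀ i, (cl (lab i)).X) →* G n}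
  {ψ : IrrCharacter (∀ i, (cl (lab i)).X)}

/-- **the symmetries** -/
theorem Frm.sym (H : Frm cl lab B ε J ψ) {τ : Perm Ω} (h : ∀ i, lab (τ i) = lab i) :
    ∃ (g : G n) (φ : (∀ i, (cl (lab i)).X) ≃* ∀ i, (cl (lab i)).X), (∀ x, g * J x * g⁻¹ = J (φ x)) ∧
      (∀ x, (ψ : (∀ i, (cl (lab i)).X) → ℂ) (φ x) = (ψ : (∀ i, (cl (lab i)).X) → ℂ) x) ∧
      ∀ y y' : ∀ i, mu Kˣ (p ^ bb Q M p (v (lab i))), (∀ i, (y (τ i)).1 = (y' i).1) →
        φ (fun i => (cl (lab i)).s (y i)) = fun i => (cl (lab i)).s (y' i) := by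
  have := A.cF.finF
  choose a b h1 h2 h3 h4 using fun i => exists_cast cl (h i)
  let φ : (∀ i, (cl (lab i)).X) →* ∀ i, (cl (lab i)).X :=
    { toFun := fun x i => a i (x (τ i))
      map_one' := funext fun i => map_one (a i)
      map_mul' := fun x y => funext fun i => map_mul (a i) _ _ }
  have hφ : Function.Injective φ := fun x y k => funext fun i => by
    obtain ⟨i, rfl⟩ := τ.surjective i
    exact (a i).injective (congrFun k i)
  let Λ : (∀ i, (cl (lab i)).W) →ₗ[F] ∀ i, (cl (lab i)).W :=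
    { toFun := fun w i => b i (w (τ i))
      map_add' := fun x y => funext fun i => map_add (b i) _ _
      map_smul' := fun c x => funext fun i => map_smul (b i) _ _ }
  have hΛ : Function.Injective Λ := fun x y k => funext fun i => by
    obtain ⟨i, rfl⟩ := τ.surjective i
    exact (b i).injective (congrFun k i)
  obtain ⟨g₀, hg₀⟩ := H901.Sl.exists_gl (ε.toLinearMap ∘ₗ Λ ∘ₗ ε.symm.toLinearMap)
    (ε.injective.comp (hΛ.comp ε.symm.injective))
  have h5 : ∀ w, g₀.1.mulVec (ε w) = ε (Λ w) := fun w => (hg₀ _).trans (congrArg (fun x => ε (Λ x)) (ε.symm_apply_apply w))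
  obtain ⟨g, rfl⟩ := A.rng n g₀ fun x y => by
    obtain ⟨x, rfl⟩ := ε.surjective x
    obtain ⟨y, rfl⟩ := ε.surjective y
    rw [h5, h5, H.form, H.form, ← Equiv.sum_comp τ fun i => (cl (lab i)).fm (x i) (y i)]
    exact congrArg (· + _) (Finset.sum_congr rfl fun i _ => h2 i _ _)
  refine ⟨g, MulEquiv.ofBijective φ (Finite.injective_iff_bijective.1 hφ), fun x => ?_, fun x => ?_,
    fun y y' k => funext fun i => h4 i _ _ (k i)⟩
  · rw [mul_inv_eq_iff_eq_mul]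
    refine A.inj n (H901.Sl.ext_mulVec fun w => ?_)
    obtain ⟨w, rfl⟩ := ε.surjective w
    rw [map_mul, map_mul, Units.val_mul, Units.val_mul, ← Matrix.mulVec_mulVec, ← Matrix.mulVec_mulVec, H.act, h5, h5, H.act]
    exact congrArg ε (funext fun i => h1 i _ _)
  · rw [H.val, H.val, ← Equiv.prod_comp τ fun i => ((cl (lab i)).θ₀ : (cl (lab i)).X → ℂ) (x i)]
    exact Finset.prod_congr rfl fun i _ => h3 i _

/-- the shape of a frame -/
noncomputable def shp (cl : ∀ δ : Δ, Cell A 𝔐 (v δ)) (lab : Ω → Δ) (h0 : 0 < vz p (Q - 1))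
    (hd : ∀ i, p ^ bb Q M p (v (lab i)) ∣ Nat.card Kˣ) : Sh p (vz p (Q - 1)) Kˣ Ω Δ where
  lab := lab
  b δ := bb Q M p (v δ)
  e δ := (cl δ).e
  pos := h0
  dvd := hd
  ne _ := (cl _).ene
  fac _ := (cl _).efac

variable {h0 : 0 < vz p (Q - 1)} {hd : ∀ i, p ^ bb Q M p (v (lab i)) ∣ Nat.card Kˣ}

/-- the base group in the product of the cells -/
noncomputable def sA (cl : ∀ δ : Δ, Cell A 𝔐 (v δ)) (lab : Ω → Δ) (h0 : 0 < vz p (Q - 1))
    (hd : ∀ i, p ^ bb Q M p (v (lab i)) ∣ Nat.card Kˣ) : (shp cl lab h0 hd).A →* ∀ i, (cl (lab i)).X where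
  toFun w i := (cl (lab i)).s ⟨w.1 i, (Sh.mem_A _).1 w.2 i⟩
  map_one' := funext fun i => map_one (cl (lab i)).s
  map_mul' x y := funext fun i => map_mul (cl (lab i)).s ⟨_, (Sh.mem_A _).1 x.2 i⟩ ⟨_, (Sh.mem_A _).1 y.2 i⟩

theorem sA_inj : Function.Injective (sA cl lab h0 hd) := fun _ _ h =>
  Subtype.ext (funext fun i => congrArg Subtype.val ((cl (lab i)).sinj (congrFun h i)))

theorem card_A : Nat.card (shp cl lab h0 hd).A = p ^ ∑ i, bb Q M p (v (lab i)) := by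
  have := A.ctx.finK
  rw [← Finset.prod_pow_eq_pow_sum]
  exact Grp.card_pi _ hd

theorem Frm.dg (H : Frm cl lab B ε J ψ) (h𝔐 : IsPModular p 𝔐) :
    IsDefectGroup p 𝔐 (blockOf 𝔐 (ψ : (∀ i, (cl (lab i)).X) → ℂ)) (sA cl lab h0 hd).range := by
  have := Fact.mk h𝔐.1
  have := isPrime_of_isPModular h𝔐
  obtain ⟨D, hD⟩ := H648.Dict.exists_isDefectGroup h𝔐 (isPBlock_blockOf (M := 𝔐) ψ)
  have h1 : Nat.card (sA cl lab h0 hd).range = p ^ ∑ i, bb Q M p (v (lab i)) :=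
    (Nat.card_congr (MonoidHom.ofInjective sA_inj).toEquiv).symm.trans card_A
  rwa [Subgroup.eq_of_le_of_card_ge (TO.Cov.le_defect hD (IsPGroup.of_card h1) ?_) ?_]
  · rintro _ ⟨w, rfl⟩
    exact Subgroup.mem_center_iff.2 fun x => funext fun i => ((cl (lab i)).scen _ _).symm
  · rw [h1, S0908.result p 𝔐 h𝔐 _ (isPBlock_blockOf ψ) D hD]
    refine Nat.pow_le_pow_right h𝔐.1.pos ?_
    obtain ⟨ψ', h2, h3⟩ := Nat.sInf_mem (s := (fun χ : IrrCharacter (∀ i, (cl (lab i)).X) =>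
      (charDegree (χ : (∀ i, (cl (lab i)).X) → ℂ)).factorization p) '' blockOf 𝔐 (ψ : (∀ i, (cl (lab i)).X) → ℂ))
      ⟨_, ψ, mem_blockOf_self ψ, rfl⟩
    have h4 := H.dfc ψ' h2
    rw [blockDefect, ← h3]
    exact Nat.sub_le_iff_le_add'.2 h4

theorem pow_of_zpow {C : Type} [Group C] {x : C} {k : ℕ} (hp : p.Prime) (hQ : Q - 1 ≠ 0) (h1 : x ^ (Q - 1) = 1)
    (h2 : x ^ p ^ k = 1) : x ^ p ^ vz p (Q - 1) = 1 := by
  obtain ⟨j, -, hj⟩ := (Nat.dvd_prime_pow hp).1 (orderOf_dvd_of_pow_eq_one h2)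
  have h3 := Int.natCast_dvd.1 (orderOf_dvd_iff_zpow_eq_one.2 h1)
  rw [hj, hp.pow_dvd_iff_le_factorization (Int.natAbs_ne_zero.2 hQ)] at h3
  exact orderOf_dvd_iff_pow_eq_one.1 (hj ▸ pow_dvd_pow p h3)

/-- **the defect groups** -/
theorem Frm.fr (H : Frm cl lab B ε J ψ) (h𝔐 : IsPModular p 𝔐) (hn0 : 0 < n) (hn : n ≤ N)
    (hdeg : ∀ χ ∈ B, (Nat.card (G n)).factorization p ≤ (charDegree (χ : G n → ℂ)).factorization p +
      (∑ i, bb Q M p (v (lab i)) + (Nat.card (shp cl lab h0 hd).L).factorization p))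
    {P U : Subgroup (G n)} (hP : IsDefectGroup p 𝔐 B P) (hU : ∀ u ∈ U, u ∈ A.Z n) (hUp : IsPGroup p U) :
    ∃ (α : (shp cl lab h0 hd).A →* G n) (π : P →* Perm Ω), Fr (A.d n) U P α π := by
  have := Fact.mk h𝔐.1
  have := isPrime_of_isPModular h𝔐
  have := A.ctx.finK
  have := A.cF.finF
  have hQ : Q - 1 ≠ 0 := fun h => by simp [h, vz] at h0
  refine (boxF p _ 𝔐 h𝔐 Kˣ (G n) Ω Δ (shp cl lab h0 hd) (J.comp (sA cl lab h0 hd)) (H.inj.comp sA_inj)
    J.range ?_ _ B ((indH_iff_range H.inj).1 H.ind) ?_ ?_ ?_ P hP).elim fun g ⟨π, h⟩ => ?_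
  · refine le_antisymm ?_ fun x hx => H.cen x fun y =>
      (hx _ ⟨⟨fun i => (y i).1, (Sh.mem_A _).2 fun i => (y i).2⟩, rfl⟩).symm
    rintro _ ⟨x, rfl⟩ _ ⟨w, rfl⟩
    rw [MonoidHom.comp_apply, ← map_mul, ← map_mul]
    exact congrArg J (funext fun i => (cl (lab i)).scen _ _)
  · convert isDefectGroup_trSet (MonoidHom.ofInjective H.inj).symm (H.dg (h0 := h0) (hd := hd) h𝔐)
    ext x
    obtain ⟨x, rfl⟩ := (MonoidHom.ofInjective H.inj).surjective x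
    refine ⟨fun ⟨w, hw⟩ => ⟨w, (H.inj hw).trans (MulEquiv.symm_apply_apply _ x).symm⟩, fun ⟨w, hw⟩ => ⟨w, ?_⟩⟩
    exact congrArg J (hw.trans (MulEquiv.symm_apply_apply _ x))
  · intro σ hσ
    obtain ⟨g, φ, h1, h2, h3⟩ := H.sym (τ := σ⁻¹) ((shp cl lab h0 hd).L.inv_mem hσ)
    refine ⟨g, fun w w' k => (h1 _).trans (congrArg J (h3 _ _ fun i => ?_)), stab_of H.inj h1 h2⟩
    exact (k _).symm.trans (congrArg w'.1 (σ.apply_symm_apply i))
  · intro χ hχ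
    rw [card_A, h𝔐.1.factorization_pow, Finsupp.single_eq_same]
    exact hdeg χ hχ
  · refine ⟨_, π, h, fun w => ?_, fun x k => pow_of_zpow h𝔐.1 hQ (A.drng n x), fun z hz => ?_⟩
    · change A.d n (g * J (sA cl lab h0 hd w) * g⁻¹) = _
      rw [map_mul, map_mul, map_inv, mul_inv_cancel_comm, H.det]
      exact Finset.prod_congr rfl fun i _ => (cl (lab i)).dts _
    · obtain ⟨c, hc⟩ := hU z hz
      obtain ⟨k, hk⟩ := hUp ⟨z, hz⟩
      have h1 : Units.map (algebraMap F K).toMonoidHom c ^ p ^ vz p (Q - 1) = 1 := by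
        refine pow_of_zpow (k := k) h𝔐.1 hQ (A.scalar hn0 hn hc) ?_
        rw [← map_pow, orderOf_dvd_iff_pow_eq_one.1 (orderOf_scl hn0 c ▸ hc ▸ orderOf_dvd_of_pow_eq_one
          (by rw [← map_pow, show z ^ p ^ k = 1 from congrArg Subtype.val hk, map_one])), map_one]
      refine ⟨⟨fun _ => Units.map (algebraMap F K).toMonoidHom c, (Sh.mem_A _).2 fun i => ?_⟩, _, ?_, h1, fun _ => rfl⟩
      · rw [← (shp cl lab h0 hd).fac i, pow_add, mul_comm, pow_mul, h1, one_pow]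
      · change g * J (sA cl lab h0 hd _) * g⁻¹ = z
        rw [mul_inv_eq_iff_eq_mul]
        refine A.inj n ?_
        rw [map_mul, map_mul, hc, scl_comm]
        refine congrArg _ (H901.Sl.ext_mulVec fun w => ?_)
        obtain ⟨w, rfl⟩ := ε.surjective w
        rw [H.act, H901.Sl.scl_mulVec, ← map_smul]
        exact congrArg ε (funext fun i => (cl (lab i)).ssc c _ rfl _)

end Cfsg.Agent.RC.A
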