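import Cfsg.Agent.RC.A.Red
import Cfsg.Agent.H669.Basic

/-!
# RC, type A (helper65): the frame of a block

* `Frm` : the product of the cells in `G n`, with the product of the cuspidal characters inducing the block;
* `exists_frm` : existence, by induction on the number of cells.
-/

set_option autoImplicit false

namespace Cfsg.Agent.RC.A

open Cfsg
open Cfsg.Agent.H577.GLB.Std Cfsg.Agent.H614.GLn.RSt Cfsg.Agent.H623.GU Cfsg.Agent.H112.GLB
open Cfsg.Agent.Blocks.Local Cfsg.Agent.Blocks.Basic Cfsg.Agent.H592.Transport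
open Cfsg.Agent.TID.Red (IndH indH_equiv charDegree_tr)

variable {F K : Type} [Field F] [Field K] [Algebra F K] {θ : K →*₀ ℂ} {Q : ℤ} {M : ℕ} [NeZero M] {N p : ℕ}
  {G : ℕ → Type} [∀ n, Group (G n)] [∀ n, Finite (G n)] {A : Amb F K θ Q M N p G} {𝔐 : Ideal AlgInt}
  {Δ : Type} {v : Δ → ZMod M}

/-- the frame of the block `B` -/
structure Frm (cl : ∀ δ : Δ, Cell A 𝔐 (v δ)) {Ω : Type} [Fintype Ω] (lab : Ω → Δ) {n : ℕ} (B : Set (IrrCharacter (G n)))
    (ε : (∀ i, (cl (lab i)).W) ≃ₗ[F] (Fin n → F)) (J : (∀ i, (cl (lab i)).X) →* G n)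
    (ψ : IrrCharacter (∀ i, (cl (lab i)).X)) : Prop where
  form : ∀ x y, A.bf n (ε x) (ε y) = ∑ i, (cl (lab i)).fm (x i) (y i) + A.bf 0 0 0
  act : ∀ x w, (A.ρ n (J x)).1.mulVec (ε w) = ε fun i => (cl (lab i)).act (x i) (w i)
  det : ∀ x, A.d n (J x) = ∏ i, (cl (lab i)).dt (x i)
  inj : Function.Injective J
  cen : ∀ g : G n, (∀ y : ∀ i, mu Kˣ (p ^ bb Q M p (v (lab i))),
    g * J (fun i => (cl (lab i)).s (y i)) = J (fun i => (cl (lab i)).s (y i)) * g) → g ∈ J.range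
  val : ∀ x, (ψ : (∀ i, (cl (lab i)).X) → ℂ) x = ∏ i, ((cl (lab i)).θ₀ : (cl (lab i)).X → ℂ) (x i)
  ind : IndH 𝔐 J (blockOf 𝔐 (ψ : (∀ i, (cl (lab i)).X) → ℂ)) B
  dfc : ∀ ψ' ∈ blockOf 𝔐 (ψ : (∀ i, (cl (lab i)).X) → ℂ), (Nat.card (∀ i, (cl (lab i)).X)).factorization p ≤
    (charDegree (ψ' : (∀ i, (cl (lab i)).X) → ℂ)).factorization p + ∑ i, bb Q M p (v (lab i))

theorem deg_mul {X Y Z : Type} [Group X] [Finite X] [Group Y] [Finite Y] [Group Z] [Finite Z] {a : IrrCharacter X}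
    {b : IrrCharacter Y} {c : IrrCharacter Z} (h : (c : Z → ℂ) 1 = (a : X → ℂ) 1 * (b : Y → ℂ) 1) (p : ℕ) :
    (charDegree (c : Z → ℂ)).factorization p =
      (charDegree (a : X → ℂ)).factorization p + (charDegree (b : Y → ℂ)).factorization p := by
  rw [irr_one_eq_charDegree a.2, irr_one_eq_charDegree b.2, irr_one_eq_charDegree c.2, ← Nat.cast_mul, Nat.cast_inj] at h
  rw [h, Nat.factorization_mul (charDegree_pos a.2).ne' (charDegree_pos b.2).ne']
  rfl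

theorem frm_zero [𝔐.IsPrime] (cl : ∀ δ : Δ, Cell A 𝔐 (v δ)) {Ω : Type} [Fintype Ω] [IsEmpty Ω] (lab : Ω → Δ)
    {B : Set (IrrCharacter (G 0))} (hB : IsPBlock 𝔐 B) : ∃ ε J ψ, Frm cl lab B ε J ψ := by
  have : Subsingleton (G 0) := (A.inj 0).subsingleton
  let _ : Unique (G 0) := uniqueOfSubsingleton 1
  let e : (∀ i, (cl (lab i)).X) ≃* G 0 := MulEquiv.ofUnique
  obtain ⟨χ, hχ⟩ := isPBlock_nonempty hB
  refine ⟨LinearEquiv.ofSubsingleton _ _, e.toMonoidHom, tr e χ, fun x y => ?_, fun x w => Subsingleton.elim _ _,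
    fun x => ?_, e.injective, fun g _ => e.surjective g, fun x => ?_, ?_, fun ψ' _ => ?_⟩
  · rw [Finset.univ_eq_empty, Finset.sum_empty, zero_add]
    congr 1 <;> exact Subsingleton.elim _ _
  · rw [Finset.univ_eq_empty, Finset.prod_empty, Subsingleton.elim x 1, map_one, map_one]
  · have h := H669.Basic.charDegree_dvd_card χ.2
    rw [Nat.card_unique, Nat.dvd_one] at h
    rw [Finset.univ_eq_empty, Finset.prod_empty, tr_apply, Subsingleton.elim (e x) 1, irr_one_eq_charDegree χ.2, h,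
      Nat.cast_one]
  · rw [← trSet_blockOf, ← isPBlock_eq_blockOf hB hχ]
    exact indH_equiv e hB
  · rw [Nat.card_unique, Nat.factorization_one]
    exact Nat.zero_le _

/-- **The frame exists.** -/
theorem exists_frm (hO : BoxO) (h𝔐 : IsPModular p 𝔐) (hQ1 : (p : ℤ) ∣ Q - 1) (cl : ∀ δ : Δ, Cell A 𝔐 (v δ)) {m : ℕ}
    (r : ℕ) : ∀ (Ω : Type) [Fintype Ω] (lab : Ω → Δ), Fintype.card Ω = r → (∀ i, v (lab i) ∈ repsZ Q M) →
      ∀ (n : ℕ) (hn : n ≤ N), n ≤ m → ∀ (B : Set (IrrCharacter (G n))), IsPBlock 𝔐 B → ∀ χ ∈ B, ∀ t : LabZ Q M m n,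
      (A.t.R n hn).IsLb χ t → POnly M p t.t →
      (∀ δ ∈ repsZ Q M, ∑ i, (if v (lab i) = δ then 1 else 0) = bsz (t.t δ)) → ∃ ε J ψ, Frm cl lab B ε J ψ := by
  classical
  have := isPrime_of_isPModular h𝔐
  have hQ := A.ctx.unit
  induction r with
  | zero =>
    intro Ω _ lab hr _ n _ _ B hB _ _ t _ _ hc
    have := Fintype.card_eq_zero_iff.1 hr
    obtain rfl : n = 0 := (LV.A.sum_reps hQ t).symm.trans (Finset.sum_eq_zero fun c hc' => by
      rw [← hc c hc', Finset.univ_eq_empty, Finset.sum_empty, mul_zero])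
    exact frm_zero cl lab hB
  | succ r ih =>
    intro Ω _ lab hr hv n hn hm B hB χ hχ t ht ht' hc
    obtain ⟨a⟩ : Nonempty Ω := Fintype.card_pos_iff.1 (by omega)
    have h0 := hc _ (hv a)
    rw [Fintype.sum_eq_add_sum_subtype_ne _ a, if_pos rfl] at h0
    obtain ⟨l, hl, χ₂, t₂, hln, h1, h2, h3, h4, h5⟩ := red' h𝔐 hQ1 hn hm hB hχ ht ht' (by omega) (cl (lab a))
    obtain ⟨ε₂, J₂, ψ₂, H⟩ := ih {i // i ≠ a} (fun i => lab i.1) (by
      rw [Fintype.card_subtype_compl, Fintype.card_subtype_eq, hr]; rfl) (fun i => hv i.1) l hl (by omega) _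
      (isPBlock_blockOf χ₂) χ₂ (mem_blockOf_self χ₂) t₂ h1 h2 fun δ hδ => by
        by_cases h : v (lab a) = δ
        · subst h
          omega
        · have h6 := hc δ hδ
          rw [Fintype.sum_eq_add_sum_subtype_ne _ a, if_neg h, zero_add] at h6
          rw [h6, h3 δ fun h7 => h ?_]
          rw [← mem_repsZ.1 (hv a), canon_eq_of_same hQ h7, mem_repsZ.1 hδ]
    obtain ⟨e, j, y₀, k1, k2, k3, k4, k5, k6⟩ := (cl (lab a)).step l n hl hn hln
    let sM : (∀ i, (cl (lab i)).X) ≃* (cl (lab a)).X × ∀ i : {i // i ≠ a}, (cl (lab i.1)).X :=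
      { Equiv.piSplitAt a fun i => (cl (lab i)).X with map_mul' := fun _ _ => rfl }
    let sL : (∀ i, (cl (lab i)).W) ≃ₗ[F] (cl (lab a)).W × ∀ i : {i // i ≠ a}, (cl (lab i.1)).W :=
      { Equiv.piSplitAt a fun i => (cl (lab i)).W with map_add' := fun _ _ => rfl, map_smul' := fun _ _ => rfl }
    let J₁ := j.comp (MonoidHom.prodMap (MonoidHom.id _) J₂)
    have k7 : ∀ x, J₁ x = j (x.1, J₂ x.2) := fun _ => rfl
    obtain ⟨o1, o2⟩ := hO p 𝔐 h𝔐 _ _ (cl (lab a)).θ₀ ψ₂ _ (ox_apply _ _)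
    have hu : ∃ b : ℕ, orderOf (j ((cl (lab a)).s y₀, 1)) = p ^ b := by
      obtain ⟨b, -, hb⟩ := (Nat.dvd_prime_pow h𝔐.1).1 (orderOf_dvd_of_pow_eq_one (x := j ((cl (lab a)).s y₀, 1))
        (n := p ^ bb Q M p (v (lab a))) (by
          rw [← map_pow, Prod.pow_mk, ← map_pow, show y₀ ^ p ^ bb Q M p (v (lab a)) = 1 from Subtype.ext y₀.2, map_one,
            one_pow]
          exact map_one j))
      exact ⟨b, hb⟩
    refine ⟨(sL.trans ((LinearEquiv.refl F _).prodCongr ε₂)).trans e, J₁.comp sM.toMonoidHom,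
      tr sM (ox (cl (lab a)).θ₀ ψ₂), fun x y => ?_, fun x w => ?_, fun x => ?_, fun x y h => ?_, fun g hg => ?_,
      fun x => ?_, ?_, fun ψ' hψ' => ?_⟩
    · rw [Fintype.sum_eq_add_sum_subtype_ne _ a, add_assoc, ← H.form (fun i => x i.1) fun i => y i.1]
      exact k1 (x a, ε₂ fun i => x i.1) (y a, ε₂ fun i => y i.1)
    · refine (k2 (x a) (J₂ fun i => x i.1) (w a) (ε₂ fun i => w i.1)).trans ?_
      rw [H.act]
      rfl
    · rw [Fintype.prod_eq_mul_prod_subtype_ne _ a, ← H.det fun i => x i.1]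
      exact k3 (x a) (J₂ fun i => x i.1)
    · have h6 := k4 (show j ((sM x).1, J₂ (sM x).2) = j ((sM y).1, J₂ (sM y).2) from h)
      exact sM.injective (Prod.ext (Prod.mk.inj h6).1 (H.inj (Prod.mk.inj h6).2))
    · have key : ∀ (y₁ : mu Kˣ (p ^ bb Q M p (v (lab a)))) (y : ∀ i : {i // i ≠ a}, mu Kˣ (p ^ bb Q M p (v (lab i.1)))),
          g * j ((cl (lab a)).s y₁, J₂ fun i => (cl (lab i.1)).s (y i)) =
            j ((cl (lab a)).s y₁, J₂ fun i => (cl (lab i.1)).s (y i)) * g := fun y₁ y => by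
        obtain ⟨z, hz⟩ := (Equiv.piSplitAt a fun i => mu Kˣ (p ^ bb Q M p (v (lab i)))).surjective (y₁, y)
        obtain ⟨rfl, rfl⟩ := Prod.mk.inj hz
        exact hg z
      have h6 := key y₀ 1
      rw [show (fun i : {i // i ≠ a} => (cl (lab i.1)).s
        ((1 : ∀ i : {i // i ≠ a}, mu Kˣ (p ^ bb Q M p (v (lab i.1)))) i)) = 1 from funext fun i => map_one _, map_one] at h6
      obtain ⟨⟨x₁, g₂⟩, rfl⟩ : g ∈ j.range := k5 ▸ Subgroup.mem_centralizer_singleton_iff.2 h6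
      obtain ⟨x₂, rfl⟩ := H.cen g₂ fun y => by
        have h7 := key 1 y
        rw [← map_mul, ← map_mul] at h7
        exact congrArg Prod.snd (k4 h7)
      exact ⟨sM.symm (x₁, x₂), congrArg J₁ (sM.apply_symm_apply _)⟩
    · rw [Fintype.prod_eq_mul_prod_subtype_ne _ a, ← H.val fun i => x i.1]
      rfl
    · rw [← trSet_blockOf]
      exact TID.Red.IndH.src sM (ι := J₁) (fun _ => rfl) ((TID.Red.IndH.trans_iff (fun _ => rfl)
        (o2 _ J₂ χ₂ _ (ox_apply _ _) H.ind)).2 (h5 j k4 _ hu k5 k6))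
    · rw [← trSet_blockOf, mem_trSet] at hψ'
      obtain ⟨θ', h6, ψ'', h7, h8⟩ := o1 _ hψ'
      have h9 := (cl (lab a)).dfc θ' h6
      have h10 := H.dfc ψ'' h7
      rw [← charDegree_tr sM.symm ψ', deg_mul (h8 1), Nat.card_congr sM.toEquiv, Nat.card_prod,
        Nat.factorization_mul Nat.card_pos.ne' Nat.card_pos.ne', Finsupp.add_apply,
        Fintype.sum_eq_add_sum_subtype_ne _ a]
      omega

end Cfsg.Agent.RC.A
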