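import Cfsg.Agent.RC.A.Amb
import Cfsg.Agent.H76.GLB.ProdBlk
import Cfsg.Agent.S0188

/-!
# RC, type A: outer products (helper60)

* `Ox.cc_prod` : the central character of an outer product;
* `Ox.split` : the members of the block of an outer product;
* `Ox.icc_prod` : the induced central character of an outer product;
* `boxO`.
-/

set_option autoImplicit false
set_option linter.unusedSectionVars false

namespace Cfsg.Agent.RC.A

open Cfsg Cfsg.Agent.Blocks Cfsg.Agent.Blocks.Local Cfsg.Agent.Characters.Core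
open Cfsg.Agent.TID.Red (IndH icc icc_eq_sum)

namespace Ox

variable {X Y : Type} [Group X] [Finite X] [Group Y] [Finite Y]

theorem cc_prod {a : X × Y → ℂ} {θ : X → ℂ} {ψ : Y → ℂ} (h : ∀ x, a x = θ x.1 * ψ x.2) (x : X × Y) :
    centralChar a x = centralChar θ x.1 * centralChar ψ x.2 := by
  have h1 : a 1 = θ 1 * ψ 1 := h 1
  unfold centralChar
  rw [H76.GLB.centralizer_prod, Subgroup.index_prod, h x, h1]
  push_cast
  rw [div_mul_div_comm]
  congr 1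
  ring

theorem split {𝔐 : Ideal AlgInt} (θ : IrrCharacter X) (ψ : IrrCharacter Y) (a : IrrCharacter (X × Y))
    (h : ∀ x, (a : X × Y → ℂ) x = (θ : X → ℂ) x.1 * (ψ : Y → ℂ) x.2) (a' : IrrCharacter (X × Y))
    (ha' : a' ∈ blockOf 𝔐 (a : X × Y → ℂ)) : ∃ θ' ∈ blockOf 𝔐 (θ : X → ℂ), ∃ ψ' ∈ blockOf 𝔐 (ψ : Y → ℂ),
      ∀ x, (a' : X × Y → ℂ) x = (θ' : X → ℂ) x.1 * (ψ' : Y → ℂ) x.2 := by
  obtain ⟨φ, η, hφ, hη, hab⟩ := (Cfsg.Agent.S0188.result _).1 a'.2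
  have h' : ∀ x, (a' : X × Y → ℂ) x = φ x.1 * η x.2 := fun x => congrFun hab x
  refine ⟨⟨φ, hφ⟩, fun g => ?_, ⟨η, hη⟩, fun g => ?_, h'⟩
  · have h1 := ha' (g, 1)
    rw [cc_prod h, cc_prod h'] at h1
    simp only [Central.centralChar_one ψ.2, Central.centralChar_one hη, mul_one] at h1
    exact h1
  · have h1 := ha' (1, g)
    rw [cc_prod h, cc_prod h'] at h1
    simp only [Central.centralChar_one θ.2, Central.centralChar_one hφ, one_mul] at h1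
    exact h1

theorem icc_prod {G : Type} [Group G] (ι : Y →* G) {a : X × Y → ℂ} {θ : X → ℂ} {ψ : Y → ℂ}
    (hθ : IsClassFunction X θ) (h : ∀ x, a x = θ x.1 * ψ x.2) (x : X) (g : G) :
    icc (MonoidHom.prodMap (MonoidHom.id X) ι) a (x, g) = centralChar θ x * icc ι ψ g := by
  classical
  have := Fintype.ofFinite X
  have := Fintype.ofFinite Y
  have h0 : a 1 = θ 1 * ψ 1 := h 1
  have h1 : centralChar θ x = icc (MonoidHom.id X) θ x := (ClassSum.finsum_conj_div hθ x).symm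
  rw [h1, icc_eq_sum, icc_eq_sum, icc_eq_sum, Finset.sum_mul_sum, Fintype.sum_prod_type]
  refine Finset.sum_congr rfl fun u _ => Finset.sum_congr rfl fun v _ => ?_
  have h2 : IsConj (x, g) (MonoidHom.prodMap (MonoidHom.id X) ι (u, v)) ↔
      IsConj x (MonoidHom.id X u) ∧ IsConj g (ι v) := by
    simp only [isConj_iff]
    constructor
    · rintro ⟨c, hc⟩
      exact ⟨⟨c.1, congrArg Prod.fst hc⟩, ⟨c.2, congrArg Prod.snd hc⟩⟩
    · rintro ⟨⟨c, hc⟩, ⟨d, hd⟩⟩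
      exact ⟨(c, d), Prod.ext hc hd⟩
  have h5 : a (u, v) = θ u * ψ v := h (u, v)
  rw [h5, h0, ← div_mul_div_comm]
  by_cases h3 : IsConj x (MonoidHom.id X u)
  · by_cases h4 : IsConj g (ι v)
    · rw [if_pos (h2.2 ⟨h3, h4⟩), if_pos h3, if_pos h4, one_mul, one_mul, one_mul]
    · rw [if_neg (fun h6 => h4 (h2.1 h6).2), if_neg h4, zero_mul, zero_mul, mul_zero]
  · rw [if_neg (fun h6 => h3 (h2.1 h6).1), if_neg h3, zero_mul, zero_mul, zero_mul]

end Ox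

/-- **Outer products.** -/
theorem boxO : BoxO := by
  intro p 𝔐 hM X Y _ _ _ _ θ ψ a h
  have hP : 𝔐.IsPrime := hM.2.1.isPrime
  refine ⟨Ox.split θ ψ a h, fun G _ _ ι χ b hb hI => ⟨Basic.isPBlock_blockOf a, Basic.isPBlock_blockOf b, ?_⟩⟩
  rintro ξ hξ ζ hζ ⟨x, g⟩
  obtain ⟨θ₁, hθ₁, ψ₁, hψ₁, h₁⟩ := Ox.split θ ψ a h ξ hξ
  obtain ⟨θ₂, hθ₂, χ₂, hχ₂, h₂⟩ := Ox.split θ χ b hb ζ hζ
  rw [Ox.icc_prod ι (isIrr_isClassFunction θ₁.2) h₁, Ox.cc_prod h₂]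
  have e : centralChar (θ₁ : X → ℂ) x * icc ι (ψ₁ : Y → ℂ) g -
      centralChar (θ₂ : X → ℂ) (x, g).1 * centralChar (χ₂ : G → ℂ) (x, g).2 =
      centralChar (θ₁ : X → ℂ) x * (icc ι (ψ₁ : Y → ℂ) g - centralChar (χ₂ : G → ℂ) g) +
      (centralChar (θ₁ : X → ℂ) x - centralChar (θ₂ : X → ℂ) x) * centralChar (χ₂ : G → ℂ) g := by
    ring
  rw [e]
  exact memLocalIdeal_add
    (memLocalIdeal_mul_left (H648.Dict.memLocalRing_centralChar θ₁ x) (hI.2.2 ψ₁ hψ₁ χ₂ hχ₂ g))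
    (memLocalIdeal_mul_right (Basic.isPBlock_sameBlock (Basic.isPBlock_blockOf θ) hθ₁ hθ₂ x)
      (H648.Dict.memLocalRing_centralChar χ₂ g))

end Cfsg.Agent.RC.A
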