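import Cfsg.Agent.RC.A.Amb
import Cfsg.Agent.LV.A.Tow
import Cfsg.Agent.S0188

/-!
# RC, type A (helper65): the reduction step at a chosen label

* `ox` : outer products; `trSet_blockOf`; `ewt_one`;
* `red'` : the reduction step of `H623.GU.red` at a given `p'`-label `δ` with a cell.
-/

set_option autoImplicit false

namespace Cfsg.Agent.RC.A

open Cfsg
open Cfsg.Agent.H577.GLB.Std Cfsg.Agent.H614 Cfsg.Agent.H614.GLn.RSt Cfsg.Agent.H623.GU Cfsg.Agent.H112.GLB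
open Cfsg.Agent.H623.GLn (exists_t2 induced_of_pairing)
open Cfsg.Agent.H117.GLn (SchP_mem_PGen lower_mem_span)
open Cfsg.Agent.Blocks.Local Cfsg.Agent.Blocks.Basic Cfsg.Agent.H592.Transport
open Cfsg.Agent.TID.Red (IndH indH_iff_of_equiv)

/-- the outer product -/
noncomputable def ox {X Y : Type} [Group X] [Finite X] [Group Y] [Finite Y] (a : IrrCharacter X) (b : IrrCharacter Y) :
    IrrCharacter (X × Y) :=
  ⟨fun x => (a : X → ℂ) x.1 * (b : Y → ℂ) x.2, (S0188.result _).2 ⟨_, _, a.2, b.2, rfl⟩⟩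

theorem ox_apply {X Y : Type} [Group X] [Finite X] [Group Y] [Finite Y] (a : IrrCharacter X) (b : IrrCharacter Y)
    (x : X × Y) : (ox a b : X × Y → ℂ) x = (a : X → ℂ) x.1 * (b : Y → ℂ) x.2 := rfl

theorem trSet_blockOf {𝔐 : Ideal AlgInt} [𝔐.IsPrime] {X Y : Type} [Group X] [Group Y] (e : X ≃* Y) (a : IrrCharacter Y) :
    trSet e (blockOf 𝔐 (a : Y → ℂ)) = blockOf 𝔐 (tr e a : X → ℂ) :=
  isPBlock_eq_blockOf (isPBlock_trSet e (isPBlock_blockOf a)) (tr_mem_trSet.2 (mem_blockOf_self a))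

theorem ewt_one {m : ℕ} {β : Fin m → ℕ} (hβ : StrictMono β) : ewt 1 β = bsz β := by
  have h6 := LV.A.ewt_add one_pos hβ
  have h7 := sum_core hβ.injective h6
  have h8 := LV.A.ewt_mul_le one_pos hβ
  have h9 : npairs 1 β = npairs 1 (fun i : Fin m => (i : ℕ)) :=
    npairs_of_mod fun j => by rw [Nat.mod_one, Nat.mod_one]
  have h10 := npairs_le one_pos (β := fun i : Fin m => (i : ℕ)) Fin.val_injective
  simp only [Nat.div_one] at h6 h10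
  unfold bsz at h8 ⊢
  omega

theorem cast_one {p : ℕ} {Q : ℤ} (h : (p : ℤ) ∣ Q - 1) : (Q : ZMod p) = 1 := by
  have h1 := (ZMod.intCast_zmod_eq_zero_iff_dvd _ p).2 h
  rwa [Int.cast_sub, Int.cast_one, sub_eq_zero] at h1

variable {F K : Type} [Field F] [Field K] [Algebra F K] {θ : K →*₀ ℂ} {Q : ℤ} {M : ℕ} [NeZero M] {N p : ℕ}
  {G : ℕ → Type} [∀ n, Group (G n)] [∀ n, Finite (G n)] {A : Amb F K θ Q M N p G} {𝔐 : Ideal AlgInt}

/-- **The reduction step at `δ`.** -/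
theorem red' (h𝔐 : IsPModular p 𝔐) (hQ1 : (p : ℤ) ∣ Q - 1) {m n : ℕ} (hn : n ≤ N) (hm : n ≤ m)
    {B : Set (IrrCharacter (G n))} (hB : IsPBlock 𝔐 B) {χ : IrrCharacter (G n)} (hχ : χ ∈ B) {t : LabZ Q M m n}
    (ht : (A.t.R n hn).IsLb χ t) (ht' : POnly M p t.t) {δ : ZMod M} (hw : 0 < bsz (t.t δ)) (c : Cell A 𝔐 δ) :
    ∃ (l : ℕ) (hl : l ≤ N) (χ₂ : IrrCharacter (G l)) (t₂ : LabZ Q M m l), l + c.f * c.k = n ∧
      (A.t.R l hl).IsLb χ₂ t₂ ∧ POnly M p t₂.t ∧ (∀ δ', ¬ SameZ Q M δ δ' → bsz (t₂.t δ') = bsz (t.t δ')) ∧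
      bsz (t₂.t δ) + 1 = bsz (t.t δ) ∧
      ∀ (j : c.X × G l →* G n), Function.Injective j → ∀ u : G n, (∃ a : ℕ, orderOf u = p ^ a) →
        j.range = Subgroup.centralizer ({u} : Set (G n)) → Val (A.t.R n hn) c.R₁ (A.t.R l hl) j u →
        IndH 𝔐 j (blockOf 𝔐 (ox c.θ₀ χ₂ : c.X × G l → ℂ)) B := by
  classical
  have hp : p.Prime := h𝔐.1
  have : Fact p.Prime := ⟨hp⟩
  have := isPrime_of_isPModular h𝔐
  have hQ := A.ctx.unit
  have hQp : IsUnit (Q : ZMod p) := cast_one hQ1 ▸ isUnit_one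
  have hδ : PReg M p δ := by
    by_contra h
    rw [ht' δ h] at hw
    exact lt_irrefl _ hw
  have he : eD Q M p δ = 1 := by rw [eD, cast_one hQ1, one_pow, orderOf_one]
  have hwδ : 0 < ewt (eD Q M p δ) (t.t δ) := by rwa [he, ewt_one (t.mono δ)]
  obtain ⟨hle, l, hl, t₁, ht₁, h₁, hew, hform, hspan⟩ :
      eD Q M p δ * perZ Q M δ ≤ n ∧ ∃ l : ℕ, l = n - eD Q M p δ * perZ Q M δ ∧
      ∃ t₁ : LabZ Q M m l, POnly M p t₁.t ∧ (∀ δ', ¬ SameZ Q M δ δ' → t₁.t δ' = t.t δ') ∧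
      ewt (eD Q M p δ) (t₁.t δ) + 1 = ewt (eD Q M p δ) (t.t δ) ∧
      form Q M (MvPolynomial.pderiv (eD Q M p δ * perZ Q M δ, canon Q M δ) (SchP Q M t.t)) (SchP Q M t₁.t) ≠ 0 ∧
      MvPolynomial.pderiv (eD Q M p δ * perZ Q M δ, canon Q M δ) (SchP Q M t.t) ∈ Submodule.span ℂ
        {x : RS M | ∃ t' : LabZ Q M m l, POnly M p t'.t ∧ x = SchP Q M t'.t} := by
    obtain ⟨hle, t₁, ht₁, h₁, -, hew, hform⟩ :=
      Cfsg.Agent.H76.GLB.exists_lower (orthZ hQ) hp hQ hQp hm t ht' δ hδ hwδ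
    exact ⟨hle, _, rfl, t₁, ht₁, h₁, hew, hform, lower_mem_span hp hQ hQp hm t ht' δ hδ hwδ⟩
  rw [he, ewt_one (t.mono δ), ewt_one (t₁.mono δ)] at hew
  rw [he, one_mul, c.per] at hle hl hform hspan
  have hln : l ≤ n := by rw [hl]; exact Nat.sub_le _ _
  have hT : TorZ (Q ^ c.f) M c.k δ := (torZ_iff c.k δ).2 (by rw [c.per'])
  obtain ⟨t₂, hne, hfam₂⟩ := exists_t2 hp hQ hQp (hln.trans hm) hspan t₁ hform
  have hlN : l ≤ N := hln.trans hn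
  have hlab : (A.t.R l hlN).Bij m := A.t.bij l m hlN (hln.trans hm)
  obtain ⟨χ₂, ht₂, -⟩ := hlab.2 t₂
  obtain ⟨χ₂', hχ₂', t₂', ht₂', ht₂p⟩ :=
    (A.t.R l hlN).exists_pOnly_mem' h𝔐 (hln.trans hm) hlab (isPBlock_blockOf (M := 𝔐) χ₂)
  have hfam := Cfsg.Agent.H623.GLn.SameFam.trans' hfam₂ ((A.t.R l hlN).sameFam_of_mem h𝔐 (hln.trans hm) hlab
    (isPBlock_blockOf χ₂) (mem_blockOf_self χ₂) hχ₂' ht₂ ht₂')
  have hb : ∀ δ', bsz (t₂'.t δ') = bsz (t₁.t δ') := fun δ' => by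
    by_cases h : PReg M p δ'
    · rw [← H157.GLB.sfun_of_pOnly hp ht₂p h, ← H157.GLB.sfun_of_pOnly hp ht₁ h, (hfam δ' h).1]
    · rw [ht₂p δ' h, ht₁ δ' h]
  refine ⟨l, hlN, χ₂', t₂', by omega, ht₂', ht₂p, fun δ' h => by rw [hb, h₁ δ' h], by rw [hb, hew], ?_⟩
  intro j hj u hu hH hval
  have := Fintype.ofFinite (Subgroup.centralizer ({u} : Set (G n)))
  obtain ⟨ψ, hψ⟩ := Cfsg.Agent.H76.GLB.exists_prodChar hj hH c.θ₀ χ₂
  have hind := induced_of_pairing h𝔐 hu rfl hB hχ (isPBlock_blockOf ψ) (mem_blockOf_self ψ)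
    (pairing_ne_zero hp c.gr (A.t.gr l hlN) hj hH hval ht (SchP_mem_PGen hQ t.t ht') hδ c.fpos c.kpos hT t₂ hne
      c.cusp ht₂ ψ hψ)
  let e := ((MonoidHom.ofInjective hj).trans (MulEquiv.subgroupCongr hH)).symm
  have h2 : ∀ s : Subgroup.centralizer ({u} : Set (G n)), (s : G n) = j (e s) := fun s => by
    obtain ⟨x, rfl⟩ := e.symm.surjective s
    rw [e.apply_symm_apply]
    rfl
  rw [← Cfsg.Agent.H76.GLB.prodBlk_blockOf h𝔐 hj hH c.θ₀ χ₂ ψ hψ, isPBlock_eq_blockOf (isPBlock_blockOf (M := 𝔐) χ₂) hχ₂',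
    Cfsg.Agent.H76.GLB.prodBlk_blockOf h𝔐 hj hH c.θ₀ χ₂' (tr e (ox c.θ₀ χ₂')) fun x h hx => by
      rw [tr_apply, show e h = x from hj ((h2 h).symm.trans hx.symm), ox_apply]] at hind
  rw [indH_iff_of_equiv e h2, trSet_blockOf]
  exact hind

end Cfsg.Agent.RC.A
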