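import Cfsg.Agent.RC.A.Defs
import Cfsg.Agent.H623.GU.Geo
import Cfsg.Agent.H794.EM.Main
import Cfsg.Agent.TID.Red.Basic
import Cfsg.Agent.KM.Mu.Rows

/-!
# RC, type A (helper65): ambient groups, cells and the open boxes

* `bb`, `lo`, `hi` : valuations attached to labels;
* `Amb` : the tower `GL_n(q)` or `GU_n(q)` with its natural module; `Cell` : one factor of the centralizer of the base group;
* `Up` : the inequality for the kernel of the determinant;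
* `BoxD` (degrees), `BoxL` (labels), `BoxO` (outer products), `BoxA` (towers), `BoxC` (cells), `BoxX` (one orbit),
  `BoxR` (descent to the covers), `BoxU` (the inequality).
-/

set_option autoImplicit false

namespace Cfsg.Agent.RC.A

open Cfsg Equiv
open Cfsg.Agent.H577.GLB.Std Cfsg.Agent.H614.GLn.RSt Cfsg.Agent.H615.GU Cfsg.Agent.H623.GU Cfsg.Agent.H112.GLB
open Cfsg.Agent.H794.EM (vz PH tyOne)
open Cfsg.Agent.H624.Sl (scl)
open Cfsg.Agent.TID.Red (IndH Ov)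
open scoped commutatorElement MatrixGroups

section lab

/-- the valuation of `Q ^ per - 1` -/
noncomputable def bb (Q : ℤ) (M p : ℕ) (c : ZMod M) : ℕ := vz p (Q ^ perZ Q M c - 1)

/-- the lower bound for the defect of the character with label `t` -/
noncomputable def lo (Q : ℤ) (M p : ℕ) [NeZero M] {m : ℕ} (t : ZMod M → Fin m → ℕ) : ℕ :=
  ∑ c ∈ repsZ Q M, bsz (t c) * bb Q M p c

/-- the upper bound for the defect of the character with label `t` -/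
noncomputable def hi (Q : ℤ) (M p : ℕ) [NeZero M] {m : ℕ} (t : ZMod M → Fin m → ℕ) : ℕ :=
  ∑ c ∈ repsZ Q M, (bsz (t c) * bb Q M p c + (bsz (t c)).factorial.factorization p)

end lab

/-- the determinant with values in the large field -/
noncomputable def dK (F K : Type) [Field F] [Field K] [Algebra F K] (n : ℕ) : GL (Fin n) F →* Kˣ :=
  (Units.map (algebraMap F K).toMonoidHom).comp Matrix.GeneralLinearGroup.det

/-- the tower with the natural modules and the invariant forms -/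
structure Amb (F K : Type) [Field F] [Field K] [Algebra F K] (θ : K →*₀ ℂ) (Q : ℤ) (M : ℕ) [NeZero M] (N p : ℕ)
    (G : ℕ → Type) [∀ n, Group (G n)] [∀ n, Finite (G n)] where
  /-- the realizations -/
  t : Tow θ Q M N p G
  /-- the matrices -/
  ρ : ∀ n, G n →* GL (Fin n) F
  /-- the forms -/
  bf : ∀ n, (Fin n → F) → (Fin n → F) → F
  ctx : CtxQ θ Q M N
  cF : H614.GLn.Ctx F θ N M
  inj : ∀ n, Function.Injective (ρ n)
  rng : ∀ (n : ℕ) (g : GL (Fin n) F), (∀ u v, bf n (g.1.mulVec u) (g.1.mulVec v) = bf n u v) → g ∈ (ρ n).range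
  typ : ∀ (n : ℕ) (hn : n ≤ N) (g : G n) (x : Kˣ),
    (t.T n hn).typ g (Quotient.mk (orbSetoid K Q) x) = mcol (ρ n g).1 (x : K)
  one : ∀ (n : ℕ) (hn : n ≤ N), (t.T n hn).typ 1 = tyOne Q n
  card : ∀ n, (Nat.card (G n)).factorization p = vz p (PH Q n)
  drng : ∀ (n : ℕ) (g : G n), dK F K n (ρ n g) ^ (Q - 1) = 1
  dsur : ∀ n, 0 < n → ∀ y : Kˣ, y ^ (Q - 1) = 1 → ∃ g : G n, dK F K n (ρ n g) = y

section

variable {F K : Type} [Field F] [Field K] [Algebra F K] {θ : K →*₀ ℂ} {Q : ℤ} {M : ℕ} [NeZero M] {N p : ℕ}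
  {G : ℕ → Type} [∀ n, Group (G n)] [∀ n, Finite (G n)]

/-- the determinant -/
noncomputable def Amb.d (A : Amb F K θ Q M N p G) (n : ℕ) : G n →* Kˣ := (dK F K n).comp (A.ρ n)

/-- the scalars -/
def Amb.Z (A : Amb F K θ Q M N p G) (n : ℕ) : Set (G n) := {g | ∃ c : Fˣ, A.ρ n g = scl n c}

/-- the factor of the centralizer which belongs to the `p'`-label `δ` -/
structure Cell (A : Amb F K θ Q M N p G) (𝔐 : Ideal AlgInt) (δ : ZMod M) where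
  /-- the group, `GL_k(q ^ f)` or `GU_k(q ^ f)` -/
  X : Type
  [grp : Group X]
  [fin : Finite X]
  /-- its natural module -/
  W : Type
  [acg : AddCommGroup W]
  [mod : Module F W]
  /-- the action -/
  act : X → W → W
  /-- the form -/
  fm : W → W → F
  /-- the degree of the field extension -/
  f : ℕ
  /-- the dimension -/
  k : ℕ
  /-- the realization -/
  R₁ : Rz (Q ^ f) M p k X
  /-- the scalars of `p`-power order -/
  s : mu Kˣ (p ^ bb Q M p δ) →* X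
  /-- the determinant over `F` -/
  dt : X → Kˣ
  /-- the exponent of the determinant of the scalars -/
  e : ℕ
  /-- the cuspidal character -/
  θ₀ : IrrCharacter X
  fpos : 0 < f
  kpos : 0 < k
  per : perZ Q M δ = f * k
  per' : perZ (Q ^ f) M δ = k
  gr : Gr R₁
  cusp : ∃ s' : ℤˣ, R₁.om (rv (Q ^ f) M k δ) = ((s' : ℤ) : ℂ) • (θ₀ : X → ℂ)
  sinj : Function.Injective s
  scen : ∀ y x, s y * x = x * s y
  dts : ∀ y, dt (s y) = y.1 ^ e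
  ene : e ≠ 0
  efac : e.factorization p + vz p (Q - 1) = bb Q M p δ
  ssc : ∀ (c : Fˣ) (y : mu Kˣ (p ^ bb Q M p δ)), y.1 = Units.map (algebraMap F K).toMonoidHom c →
    ∀ w, act (s y) w = (c : F) • w
  dfc : ∀ θ' ∈ blockOf 𝔐 (θ₀ : X → ℂ),
    (Nat.card X).factorization p ≤ (charDegree (θ' : X → ℂ)).factorization p + bb Q M p δ
  step : ∀ (l n : ℕ) (hl : l ≤ N) (hn : n ≤ N), l + f * k = n →
    ∃ (ε : (W × (Fin l → F)) ≃ₗ[F] (Fin n → F)) (j : X × G l →* G n) (y₀ : mu Kˣ (p ^ bb Q M p δ)),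
      (∀ x y, A.bf n (ε x) (ε y) = fm x.1 y.1 + A.bf l x.2 y.2) ∧
      (∀ x y w v, (A.ρ n (j (x, y))).1.mulVec (ε (w, v)) = ε (act x w, (A.ρ l y).1.mulVec v)) ∧
      (∀ x y, A.d n (j (x, y)) = dt x * A.d l y) ∧ Function.Injective j ∧
      j.range = Subgroup.centralizer ({j (s y₀, 1)} : Set (G n)) ∧
      Val (A.t.R n hn) R₁ (A.t.R l hl) j (j (s y₀, 1))

attribute [instance] Cell.grp Cell.fin Cell.acg Cell.mod

end

/-- the inequality for the normal subgroup `Y` of `Γ` and its quotients by `p`-subgroups `U` of `Z` -/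
def Up (p : ℕ) (𝔐 : Ideal AlgInt) {Γ : Type} [Group Γ] [Finite Γ] (Y : Subgroup Γ) (Z : Set Γ) : Prop :=
  ∀ (B : Set (IrrCharacter Γ)) (P : Subgroup Γ) (χ : IrrCharacter Γ) (ϑ : IrrCharacter Y) (U W : Subgroup Γ),
    IsPBlock 𝔐 B → IsDefectGroup p 𝔐 B P → χ ∈ B → Ov Y.subtype (χ : Γ → ℂ) (ϑ : Y → ℂ) → (∀ u ∈ U, u ∈ Z) → U ≤ Y →
    IsPGroup p U → (∀ u : Y, u.1 ∈ U → (ϑ : Y → ℂ) u = (ϑ : Y → ℂ) 1) → W ≤ P ⊓ Y →
    (∀ w ∈ W, ∀ x ∈ P ⊓ Y, ⁅w, x⁆ ∈ U) → 4 ≤ (Nat.card (P ⊓ Y : Subgroup Γ)).factorization p → ¬ IsMulCommutative P →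
    (charDegree (ϑ : Y → ℂ)).factorization p + (Nat.card W).factorization p < (Nat.card Y).factorization p

/-- **Degrees.** -/
def BoxD : Prop :=
  ∀ (K : Type) [Field K] (θ : K →*₀ ℂ) (Q : ℤ) (M : ℕ) [NeZero M] (N p : ℕ) (G : ℕ → Type) [∀ n, Group (G n)]
    [∀ n, Finite (G n)], p.Prime → p ≠ 2 → (p : ℤ) ∣ Q - 1 → CtxQ θ Q M N →
    ∀ (t : Tow θ Q M N p G) (n : ℕ) (hn : n ≤ N), (t.T n hn).typ 1 = tyOne Q n →
    ∀ (m : ℕ) (χ : IrrCharacter (G n)) (T : LabZ Q M m n), (t.R n hn).IsLb χ T →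
      (charDegree (χ : G n → ℂ)).factorization p + lo Q M p T.t ≤ vz p (PH Q n) ∧
      vz p (PH Q n) ≤ (charDegree (χ : G n → ℂ)).factorization p + hi Q M p T.t

/-- **Labels.** -/
def BoxL : Prop :=
  ∀ (Q : ℤ) (M : ℕ) [NeZero M] (p m n : ℕ), p.Prime → p ≠ 2 → (p : ℤ) ∣ Q - 1 → 2 ≤ |Q| → IsUnit (Q : ZMod M) →
    ∀ t T : LabZ Q M m n, POnly M p t.t → SameFam Q M p T.t t.t →
    ∀ (Ω : Type) [Fintype Ω] (lab : Ω → ZMod M), (∀ i, lab i ∈ repsZ Q M) →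
    (∀ δ ∈ repsZ Q M, Nat.card {i // lab i = δ} = bsz (t.t δ)) →
    ∀ L : Subgroup (Perm Ω), (∀ σ, σ ∈ L ↔ ∀ i, lab (σ i) = lab i) →
      hi Q M p T.t ≤ ∑ i, bb Q M p (lab i) + (Nat.card L).factorization p ∧
      ∃ (I : Type) (_ : Fintype I) (ρ : Ω → I) (rp : I → Ω) (u : I → ℕ), (∀ i, lab (rp (ρ i)) = lab i) ∧
        (∀ j, Nat.card {i // ρ i = j} = p ^ u j) ∧ ∑ j, (bb Q M p (lab (rp j)) + u j) = lo Q M p T.t ∧
        (Fintype.card I < 2 → 2 ≤ Fintype.card Ω → ∃ c ∈ repsZ Q M, perZ Q M c = n ∧ p ∣ n ∧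
          (p : ZMod M) * (((Q : ZMod M) ^ (n / p) - 1) * c) = 0 ∧ SchP Q M T.t = rv Q M n c)

/-- **Outer products.** -/
def BoxO : Prop :=
  ∀ (p : ℕ) (𝔐 : Ideal AlgInt), IsPModular p 𝔐 → ∀ (X Y : Type) [Group X] [Finite X] [Group Y] [Finite Y]
    (θ : IrrCharacter X) (ψ : IrrCharacter Y) (a : IrrCharacter (X × Y)),
    (∀ x, (a : X × Y → ℂ) x = (θ : X → ℂ) x.1 * (ψ : Y → ℂ) x.2) →
    (∀ a' ∈ blockOf 𝔐 (a : X × Y → ℂ), ∃ θ' ∈ blockOf 𝔐 (θ : X → ℂ), ∃ ψ' ∈ blockOf 𝔐 (ψ : Y → ℂ),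
      ∀ x, (a' : X × Y → ℂ) x = (θ' : X → ℂ) x.1 * (ψ' : Y → ℂ) x.2) ∧
    ∀ (G : Type) [Group G] [Finite G] (ι : Y →* G) (χ : IrrCharacter G) (b : IrrCharacter (X × G)),
      (∀ x, (b : X × G → ℂ) x = (θ : X → ℂ) x.1 * (χ : G → ℂ) x.2) →
      IndH 𝔐 ι (blockOf 𝔐 (ψ : Y → ℂ)) (blockOf 𝔐 (χ : G → ℂ)) →
      IndH 𝔐 (MonoidHom.prodMap (MonoidHom.id X) ι) (blockOf 𝔐 (a : X × Y → ℂ)) (blockOf 𝔐 (b : X × G → ℂ))

/-- **The towers.** -/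
def BoxA : Prop :=
  ∀ (F K : Type) [Field F] [Fintype F] [Field K] [Algebra F K] (θ : K →*₀ ℂ) (Q : ℤ) (M : ℕ) [NeZero M] (N p : ℕ),
    p.Prime → (p : F) ≠ 0 → H614.GLn.Ctx F θ N M → CtxQ θ Q M N →
    (Q = Fintype.card F → ∃ A : Amb F K θ Q M N p (fun n => GL (Fin n) F),
      (∀ n, A.ρ n = MonoidHom.id _) ∧ ∀ n u v, A.bf n u v = 0) ∧
    ∀ q : ℕ, Fintype.card F = q ^ 2 → Q = -(q : ℤ) → ∃ A : Amb F K θ Q M N p (fun n => GU n F q),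
      (∀ n, A.ρ n = (GU n F q).subtype) ∧ ∀ n u v, A.bf n u v = hermForm n F q u v

/-- **The cells.** -/
def BoxC : Prop :=
  ∀ (F K : Type) [Field F] [Fintype F] [Field K] [Algebra F K] (θ : K →*₀ ℂ) (Q : ℤ) (M : ℕ) [NeZero M] (N p : ℕ)
    (𝔐 : Ideal AlgInt), IsPModular p 𝔐 → p ≠ 2 → (p : ℤ) ∣ Q - 1 → ∀ δ : ZMod M, PReg M p δ → perZ Q M δ ≤ N →
    (Q = Fintype.card F → ∀ A : Amb F K θ Q M N p (fun n => GL (Fin n) F),
      (∀ n, A.ρ n = MonoidHom.id _) → (∀ n u v, A.bf n u v = 0) → Nonempty (Cell A 𝔐 δ)) ∧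
    ∀ q : ℕ, Fintype.card F = q ^ 2 → Q = -(q : ℤ) → ∀ A : Amb F K θ Q M N p (fun n => GU n F q),
      (∀ n, A.ρ n = (GU n F q).subtype) → (∀ n u v, A.bf n u v = hermForm n F q u v) → Nonempty (Cell A 𝔐 δ)

/-- **Labels with one orbit.** -/
def BoxX : Prop :=
  ∀ (F K : Type) [Field F] [Field K] [Algebra F K] (θ : K →*₀ ℂ) (Q : ℤ) (M : ℕ) [NeZero M] (N p : ℕ)
    (G : ℕ → Type) [∀ n, Group (G n)] [∀ n, Finite (G n)] (A : Amb F K θ Q M N p G),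
    p.Prime → p ≠ 2 → (p : ℤ) ∣ Q - 1 → ∀ (n : ℕ) (hn : n ≤ N), ∀ c ∈ repsZ Q M, perZ Q M c = n → p ∣ n →
    (p : ZMod M) * (((Q : ZMod M) ^ (n / p) - 1) * c) = 0 → ∀ (χ : IrrCharacter (G n)) (s : ℤˣ),
    (A.t.R n hn).om (rv Q M n c) = ((s : ℤ) : ℂ) • (χ : G n → ℂ) →
    (∀ z ∈ A.Z n, orderOf z = p → (χ : G n → ℂ) z ≠ (χ : G n → ℂ) 1) ∧
    ∀ ϑ : IrrCharacter (A.d n).ker, Ov (A.d n).ker.subtype (χ : G n → ℂ) (ϑ : (A.d n).ker → ℂ) →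
      p * charDegree (ϑ : (A.d n).ker → ℂ) ∣ charDegree (χ : G n → ℂ)

/-- **Descent.** -/
def BoxR : Prop :=
  ∀ (p : ℕ) [Fact p.Prime] (𝔐 : Ideal AlgInt) (Γ : Type) [Group Γ] [Finite Γ] (Y : Subgroup Γ) [Y.Normal] (Z : Set Γ),
    Up p 𝔐 Y Z → ∀ (Y' K S : Type) [Group Y'] [Group K] [Finite K] [Group S] (ι : Y' →* Γ) (ψ : Y' →* K) (σ : K →* S),
    Function.Injective ι → ι.range = Y → (∀ y ∈ Subgroup.center Y', ι y ∈ Z) → Function.Surjective ψ →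
    ψ.ker ≤ Subgroup.center Y' → ∀ (B : Set (IrrCharacter K)) (D : Subgroup K) (χ : IrrCharacter K),
    KM.Mu.RHyp p 𝔐 B D χ σ → KM.Mu.Rob p D χ

/-- **The inequality for the towers.** -/
def BoxU : Prop :=
  ∀ (F K : Type) [Field F] [Field K] [Algebra F K] (θ : K →*₀ ℂ) (Q : ℤ) (M : ℕ) [NeZero M] (N p : ℕ)
    (G : ℕ → Type) [∀ n, Group (G n)] [∀ n, Finite (G n)] (A : Amb F K θ Q M N p G) (𝔐 : Ideal AlgInt),
    IsPModular p 𝔐 → p ≠ 2 → (p : ℤ) ∣ Q - 1 → (∀ δ : ZMod M, PReg M p δ → perZ Q M δ ≤ N → Nonempty (Cell A 𝔐 δ)) →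
    ∀ n, 0 < n → n ≤ N → Up p 𝔐 (A.d n).ker (A.Z n)

end Cfsg.Agent.RC.A
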