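import Cfsg.Prelude.Def_BlockLocal
import Mathlib.GroupTheory.Sylow
import Mathlib.GroupTheory.SpecificGroups.Cyclic

/-!
# RC, type A (helper65): frames of defect groups

A defect group `P` of `GL_n` or `GU_n` at an odd prime dividing `q ∓ 1` is an extension of a product `A` of cyclic groups,
indexed by `Ω`, by a Sylow subgroup of the group `L` of the permutations of `Ω` which keep the labels.

* `Sh` : the shape; `Sh.A`, `Sh.L`; `Act`; `Fr0`, `Fr` : the frame;
* `BoxG` : the group theory; `BoxF` : the block theory.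
-/

set_option autoImplicit false

namespace Cfsg.Agent.RC.A

open Cfsg Equiv
open scoped commutatorElement

/-- the `k`-th roots of unity -/
def mu (C : Type) [CommGroup C] (k : ℕ) : Subgroup C := (powMonoidHom k : C →* C).ker

theorem mem_mu {C : Type} [CommGroup C] {k : ℕ} {x : C} : x ∈ mu C k ↔ x ^ k = 1 := Iff.rfl

/-- the shape: the factor `i` is cyclic of order `p ^ b (lab i)`, its determinant is the power `e (lab i)` -/
structure Sh (p a : ℕ) (C : Type) [CommGroup C] (Ω Δ : Type) where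
  /-- the labels -/
  lab : Ω → Δ
  /-- the exponents of the orders -/
  b : Δ → ℕ
  /-- the exponents of the determinants -/
  e : Δ → ℕ
  pos : 0 < a
  dvd : ∀ i, p ^ b (lab i) ∣ Nat.card C
  ne : ∀ i, e (lab i) ≠ 0
  fac : ∀ i, (e (lab i)).factorization p + a = b (lab i)

section

variable {p a : ℕ} {C : Type} [CommGroup C] {Ω Δ : Type} (S : Sh p a C Ω Δ)

/-- the base group -/
def Sh.A : Subgroup (Ω → C) := Subgroup.pi Set.univ fun i => mu C (p ^ S.b (S.lab i))

theorem Sh.mem_A {w : Ω → C} : w ∈ S.A ↔ ∀ i, w i ^ p ^ S.b (S.lab i) = 1 :=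
  ⟨fun h i => h i trivial, fun h i _ => h i⟩

/-- the permutations which keep the labels -/
def Sh.L : Subgroup (Perm Ω) where
  carrier := {σ | ∀ i, S.lab (σ i) = S.lab i}
  mul_mem' := fun h h' i => (h _).trans (h' i)
  one_mem' := fun _ => rfl
  inv_mem' := fun {σ} h i => (h _).symm.trans (congrArg S.lab (σ.apply_symm_apply i))

theorem Sh.mem_L {σ : Perm Ω} : σ ∈ S.L ↔ ∀ i, S.lab (σ i) = S.lab i := Iff.rfl

variable {S} {Γ : Type} [Group Γ]

/-- `g` acts on the base group as the permutation `σ` -/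
def Act (α : S.A →* Γ) (g : Γ) (σ : Perm Ω) : Prop :=
  ∀ w w' : S.A, (∀ i, w'.1 (σ i) = w.1 i) → g * α w * g⁻¹ = α w'

/-- `P` is an extension of the base group by a Sylow subgroup of `L` -/
structure Fr0 (P : Subgroup Γ) (α : S.A →* Γ) (π : P →* Perm Ω) : Prop where
  inj : Function.Injective α
  le : α.range ≤ P
  ker : ∀ x, π x = 1 → x.1 ∈ α.range
  act : ∀ x, Act α x.1 (π x)
  syl : ∃ T : Sylow p S.L, π.range = (T : Subgroup S.L).map S.L.subtype

/-- the frame with the determinant `d` and a group `U` of scalars -/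
structure Fr [Fintype Ω] (d : Γ →* C) (U P : Subgroup Γ) (α : S.A →* Γ) (π : P →* Perm Ω) : Prop extends Fr0 P α π where
  det : ∀ w, d (α w) = ∏ i, w.1 i ^ S.e (S.lab i)
  rng : ∀ (g : Γ) (k : ℕ), d g ^ p ^ k = 1 → d g ^ p ^ a = 1
  sc : ∀ z ∈ U, ∃ (w : S.A) (c : C), α w = z ∧ c ^ p ^ a = 1 ∧ ∀ i, w.1 i = c

end

/-- **The group theory.**  `W / U` is the centre of `(P ∩ ker d) / U`; `ρ` is a partition of `Ω` into parts of `p`-power size
inside the fibres of the labels. -/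
def BoxG : Prop :=
  ∀ (p a : ℕ) [Fact p.Prime], p ≠ 2 → ∀ (C Γ Ω Δ I : Type) [CommGroup C] [Finite C] [IsCyclic C] [Group Γ] [Finite Γ]
    [Fintype Ω] [Fintype I] (S : Sh p a C Ω Δ) (d : Γ →* C) (U P W : Subgroup Γ) (α : S.A →* Γ) (π : P →* Perm Ω),
    Fr d U P α π → W ≤ P ⊓ d.ker → (∀ w ∈ W, ∀ x ∈ P ⊓ d.ker, ⁅w, x⁆ ∈ U) →
    4 ≤ (Nat.card (P ⊓ d.ker : Subgroup Γ)).factorization p → ¬ IsMulCommutative P →
    ∀ (ρ : Ω → I) (lb : I → Δ) (u : I → ℕ), (∀ i, lb (ρ i) = S.lab i) → (∀ j, Nat.card {i // ρ i = j} = p ^ u j) →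
    (2 ≤ Fintype.card I → a + (Nat.card W).factorization p < ∑ j, (S.b (lb j) + u j)) ∧
    (U = ⊥ → a + (Nat.card W).factorization p ≤ ∑ j, (S.b (lb j) + u j)) ∧ 2 ≤ Fintype.card Ω

/-- **The block theory.** -/
def BoxF : Prop :=
  ∀ (p a : ℕ) [Fact p.Prime] (M : Ideal AlgInt), IsPModular p M → ∀ (C Γ Ω Δ : Type) [CommGroup C] [Finite C] [IsCyclic C]
    [Group Γ] [Finite Γ] [Fintype Ω] (S : Sh p a C Ω Δ) (α : S.A →* Γ), Function.Injective α →
    ∀ H : Subgroup Γ, H = Subgroup.centralizer (α.range : Set Γ) →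
    ∀ (b : Set (IrrCharacter H)) (B : Set (IrrCharacter Γ)), IsInducedBlock M H b B →
    IsDefectGroup p M b (α.range.subgroupOf H) → (∀ σ ∈ S.L, ∃ g, Act α g σ ∧ StabilizesBlock H b g) →
    (∀ χ ∈ B, (Nat.card Γ).factorization p ≤ (charDegree (χ : Γ → ℂ)).factorization p +
      ((Nat.card S.A).factorization p + (Nat.card S.L).factorization p)) →
    ∀ P : Subgroup Γ, IsDefectGroup p M B P →
    ∃ (g : Γ) (π : P →* Perm Ω), Fr0 P ((MulAut.conj g).toMonoidHom.comp α) π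

end Cfsg.Agent.RC.A
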