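import Cfsg.Agent.RC.A.Sym
import Cfsg.Agent.RC.A.Deg
import Cfsg.Agent.RC.A.Lab
import Cfsg.Agent.RC.A.Ox
import Cfsg.Agent.RC.A.Cox
import Cfsg.Agent.H625.PHZ
import Cfsg.Agent.S0887

/-!
# RC, type A (helper65): the inequality for the towers

`boxU : BoxU`.
-/

set_option autoImplicit false

namespace Cfsg.Agent.RC.A

open Cfsg Equiv
open Cfsg.Agent.H577.GLB.Std Cfsg.Agent.H614.GLn.RSt Cfsg.Agent.H623.GU Cfsg.Agent.H112.GLB
open Cfsg.Agent.H794.EM (vz)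
open Cfsg.Agent.Blocks.Basic

/-- **The inequality for the towers.** -/
theorem boxU : BoxU := by
  intro F K _ _ _ θ Q M _ N p G _ _ A 𝔐 h𝔐 h2 hQ1 hC n hn0 hn B P χ ϑ U W hB hP hχ hov hUZ hUY hUp hϑ hW hWU h4 hna
  classical
  have hp := h𝔐.1
  have := Fact.mk hp
  have := A.ctx.finK
  have := A.cF.finF
  have hQ := A.ctx.unit
  have hbij : (A.t.R n hn).Bij n := A.t.bij n n hn le_rfl
  obtain ⟨χ₀, hχ₀, t, ht, ht'⟩ := (A.t.R n hn).exists_pOnly_mem' h𝔐 le_rfl hbij hB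
  have k1 : ∀ i : Σ δ : repsZ Q M, Fin (bsz (t.t δ)), perZ Q M i.1 ≤ N := fun i =>
    ((Nat.le_mul_of_pos_right _ i.2.pos).trans (LV.A.per_mul_le hQ t i.1.2)).trans hn
  let lab : (Σ δ : repsZ Q M, Fin (bsz (t.t δ))) → {δ : ZMod M // Nonempty (Cell A 𝔐 δ)} := fun i =>
    ⟨i.1, hC _ (by_contra fun h => i.2.pos.ne' (ht' _ h)) (k1 i)⟩
  let cl : ∀ δ : {δ : ZMod M // Nonempty (Cell A 𝔐 δ)}, Cell A 𝔐 δ.1 := fun δ => δ.2.some
  have k2 : ∀ δ ∈ repsZ Q M, ∑ i, (if (lab i).1 = δ then 1 else 0) = bsz (t.t δ) := fun δ hδ => by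
    rw [Fintype.sum_sigma, Finset.sum_eq_single ⟨δ, hδ⟩ (fun c _ h => Finset.sum_eq_zero fun i _ =>
      if_neg fun h' => h (Subtype.ext h')) fun h => absurd (Finset.mem_univ _) h,
      Finset.sum_congr rfl fun i _ => if_pos rfl, Finset.sum_const, Finset.card_fin, smul_eq_mul, mul_one]
  have hQ0 : Q - 1 ≠ 0 := sub_ne_zero.2 (pow_one Q ▸ H794.EM.pow_ne_one A.ctx.two one_pos)
  have h0 : 0 < vz p (Q - 1) := hp.factorization_pos_of_dvd (Int.natAbs_ne_zero.2 hQ0) (Int.natCast_dvd.1 hQ1)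
  have hd : ∀ i, p ^ bb Q M p (lab i).1 ∣ Nat.card Kˣ := fun i => (Nat.ordProj_dvd _ p).trans
    (A.ctx.card ▸ Int.natAbs_dvd_natAbs.2 (A.ctx.dvd _ (perZ_pos hQ _) (k1 i)))
  have k3 := fun (T : LabZ Q M n n) (hT : SameFam Q M p T.t t.t) => boxL Q M p n n hp h2 hQ1 A.ctx.two hQ t T ht' hT _
    (fun i => (lab i).1) (fun i => i.1.2) (fun δ hδ => by
      rw [← k2 δ hδ, Nat.card_eq_fintype_card, Fintype.card_subtype, Finset.card_filter])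
    (shp cl lab h0 hd).L fun σ => forall_congr' fun i => Subtype.ext_iff
  have k4 := boxD K θ Q M N p G hp h2 hQ1 A.ctx A.t n hn (A.one n hn) n
  obtain ⟨ε, J, ψ, H⟩ := exists_frm boxO h𝔐 hQ1 cl _ _ lab rfl (fun i => i.1.2) n hn le_rfl B hB χ₀ hχ₀ t ht ht' k2
  obtain ⟨α, π, hF⟩ := H.fr (h0 := h0) (hd := hd) h𝔐 hn0 hn (fun χ' h => by
    obtain ⟨T, hT, -⟩ := hbij.1 χ'
    rw [A.card]
    exact (k4 χ' T hT).2.trans (Nat.add_le_add_left
      (k3 T ((A.t.R n hn).sameFam_of_mem h𝔐 le_rfl hbij hB h hχ₀ hT ht)).1 _)) hP hUZ hUp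
  obtain ⟨T, hT, -⟩ := hbij.1 χ
  obtain ⟨I, _, ρ, rp, u, l1, l2, l3, l4⟩ := (k3 T ((A.t.R n hn).sameFam_of_mem h𝔐 le_rfl hbij hB hχ hχ₀ hT ht)).2
  obtain ⟨g1, g2, g3⟩ := boxG p _ h2 Kˣ (G n) _ _ I (shp cl lab h0 hd) (A.d n) U P W α π hF hW hWU h4 hna ρ
    (fun j => lab (rp j)) u (fun i => Subtype.ext (l1 i)) l2
  have k5 := (k4 χ T hT).1
  have k6 : (Nat.card (G n)).factorization p ≤ (Nat.card (A.d n).ker).factorization p + vz p (Q - 1) := by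
    rw [← (A.d n).ker.card_mul_index, Nat.factorization_mul Nat.card_pos.ne' Subgroup.index_ne_zero_of_finite,
      Subgroup.index_ker]
    refine Nat.add_le_add_left ((Nat.factorization_le_iff_dvd Nat.card_pos.ne' (Int.natAbs_ne_zero.2 hQ0)).2
      ((Subgroup.card_dvd_of_le (K := mu Kˣ (Q - 1).natAbs) ?_).trans ?_) p) _
    · rintro _ ⟨g, rfl⟩
      exact pow_natAbs_eq_one.2 (A.drng n g)
    · rw [mu, IsCyclic.card_powMonoidHom_ker]
      exact Nat.gcd_dvd_right _ _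
  rw [← A.card, ← l3] at k5
  change _ → _ < ∑ j, (bb Q M p (lab (rp j)).1 + u j) at g1
  change _ → _ ≤ ∑ j, (bb Q M p (lab (rp j)).1 + u j) at g2
  have := Fintype.ofFinite (G n)
  have := Fintype.ofFinite (A.d n).ker
  have h5 := (TID.Red.ov_iff _ _ _).1 hov
  have h6 := (charDegree_pos χ.2).ne'
  have h7 := (charDegree_pos ϑ.2).ne'
  by_cases hI : 2 ≤ Fintype.card I
  · have k7 := (Nat.factorization_le_iff_dvd h7 h6).2 (S0887.result _ _ χ.2 _ ϑ.2 h5 _ _ (irr_one_eq_charDegree χ.2)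
      (irr_one_eq_charDegree ϑ.2)).1 p
    have := g1 hI
    omega
  obtain ⟨c, c1, c2, c3, c4, c5⟩ := l4 (not_le.1 hI) g3
  obtain ⟨s, hs⟩ := hT
  obtain ⟨x1, x2⟩ := boxX F K θ Q M N p G A hp h2 hQ1 n hn c c1 c2 c3 c4 χ s (c5 ▸ hs)
  have k7 := (Nat.factorization_le_iff_dvd (mul_ne_zero hp.ne_zero h7) h6).2 (x2 ϑ hov) p
  rw [Nat.factorization_mul hp.ne_zero h7, Finsupp.add_apply, hp.factorization_self] at k7
  have := g2 (by_contra fun hU => by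
    obtain ⟨z, hz⟩ := exists_prime_orderOf_dvd_card' (G := U) p
      ((hUp.card_eq_or_dvd).resolve_left fun h => hU (Subgroup.card_eq_one.1 h))
    obtain ⟨c₀, hc₀⟩ := hUZ z z.2
    refine x1 z ⟨c₀, hc₀⟩ ((Subgroup.orderOf_coe z).trans hz) ?_
    have h8 := H625.PHZ.central_eq _ χ.2 ϑ.2 h5 (Subgroup.mem_center_iff.2 fun g => A.inj n (by
      rw [map_mul, map_mul, hc₀, scl_comm])) (hUY z.2)
    rw [hϑ ⟨z, hUY z.2⟩ z.2] at h8
    exact mul_right_cancel₀ (Characters.Core.isIrr_apply_one_ne_zero ϑ.2) h8)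
  omega

end Cfsg.Agent.RC.A
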